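import Cfsg.Agent.H610.EB.Crit
import Cfsg.Agent.H694.DGood

/-!
# The reduction for sets of subgroups

`S` is a normal subgroup of 2-power index of `G`.

* `permS 𝒳`: the permutation character of `S` on a set of subgroups.
* `concl_of_set`: `𝒳` is a `G`-stable set of subgroups of `S` with `|𝒳| + #(𝒳 × 𝒳 / S)` odd, whose
  permutation character has its fixed constituents of even degree and odd multiplicity in the
  principal block.
* `concl_of_phi`: `φ` is a `G`-invariant fixed character of even degree in the principal block, of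
  odd multiplicity in `permS 𝒳`.
* `concl_of_two`: two classes permuted by `G`.
-/

set_option autoImplicit false
set_option linter.unusedSectionVars false
set_option linter.style.haveILetI false

namespace Cfsg.Agent.H610.EB

open Cfsg Cfsg.Agent.Characters Cfsg.Agent.H694
open scoped ComplexConjugate
open Cfsg.Agent.Characters.Core
open Cfsg.Agent.OddOrderCharacters.NormalInduced (conjFn)
open Cfsg.Agent.OddOrderCharacters.PF9.CliffGen (resTo irr_ind)
open Cfsg.Agent.Blocks.Local Cfsg.Agent.Blocks.Basic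
open Cfsg.Agent.Blocks.Covering (conjIrr conjIrr_conjIrr conjIrr_one conjIrr_apply conjIrr_at_one)

universe u v

/-- The permutation character of `S` on a set of subgroups. -/
noncomputable def permS {S : Type*} [Group S] (𝒳 : Set (Subgroup S)) : S → ℂ := fun s =>
  (Nat.card {H : Subgroup S // H ∈ 𝒳 ∧ H.map (MulAut.conj s).toMonoidHom = H} : ℂ)

/-- The conjugation action on an invariant set of subgroups. -/
@[reducible] def actS {S : Type*} [Group S] (𝒳 : Set (Subgroup S))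
    (h : ∀ g : S, ∀ H ∈ 𝒳, H.map (MulAut.conj g).toMonoidHom ∈ 𝒳) : MulAction S 𝒳 where
  smul g H := ⟨(H : Subgroup S).map (MulAut.conj g).toMonoidHom, h _ _ H.2⟩
  one_smul _ := Subtype.ext (Cfsg.Agent.H694.map_conj_one _)
  mul_smul g t _ := Subtype.ext (map_conj_conj t g _).symm

theorem permS_eq {S : Type*} [Group S] (𝒳 : Set (Subgroup S))
    (h : ∀ g : S, ∀ H ∈ 𝒳, H.map (MulAut.conj g).toMonoidHom ∈ 𝒳) :
    permS 𝒳 = (letI := actS 𝒳 h; permC S 𝒳) := by
  funext s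
  letI := actS 𝒳 h
  show (_ : ℂ) = (Nat.card (MulAction.fixedBy 𝒳 s) : ℂ)
  rw [permS]
  congr 1
  exact Nat.card_congr
    { toFun := fun H => ⟨⟨H.1, H.2.1⟩, Subtype.ext H.2.2⟩
      invFun := fun H => ⟨H.1.1, H.1.2, congrArg Subtype.val H.2⟩
      left_inv := fun H => rfl
      right_inv := fun H => rfl }

theorem permS_one {S : Type*} [Group S] (𝒳 : Set (Subgroup S)) : permS 𝒳 1 = (Nat.card 𝒳 : ℂ) := by
  rw [permS]
  congr 1
  exact Nat.card_congr
    { toFun := fun H => ⟨H.1, H.2.1⟩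
      invFun := fun H => ⟨H.1, H.2, Cfsg.Agent.H694.map_conj_one _⟩
      left_inv := fun H => rfl
      right_inv := fun H => rfl }

/-- The number of orbits on pairs is the norm. -/
theorem classInner_permS {S : Type*} [Group S] [Fintype S] (𝒳 𝒴 : Set (Subgroup S))
    (hX : ∀ g : S, ∀ H ∈ 𝒳, H.map (MulAut.conj g).toMonoidHom ∈ 𝒳)
    (hY : ∀ g : S, ∀ H ∈ 𝒴, H.map (MulAut.conj g).toMonoidHom ∈ 𝒴) :
    classInner (permS 𝒳) (permS 𝒴) = (Nat.card (Quotient (pairRel 𝒳 𝒴)) : ℂ) := by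
  haveI : Finite 𝒳 := Subtype.finite
  haveI : Finite 𝒴 := Subtype.finite
  rw [permS_eq 𝒳 hX, permS_eq 𝒴 hY]
  letI := actS 𝒳 hX
  letI := actS 𝒴 hY
  show classInner (permC S 𝒳) (permC S 𝒴) = _
  rw [classInner_permC]
  have h1 : Nat.card (MulAction.orbitRel.Quotient S (𝒳 × 𝒴)) = Nat.card (Quotient (pairRel 𝒳 𝒴)) := by
    refine Nat.card_congr (Quotient.congr (Equiv.refl _) fun x y => ?_)
    rw [Equiv.refl_apply, Equiv.refl_apply]
    have h4 : (MulAction.orbitRel S (𝒳 × 𝒴)) x y ↔ (pairRel 𝒳 𝒴) x y := by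
      rw [MulAction.orbitRel_apply]
      constructor
      · rintro ⟨n, hn⟩
        apply (pairRel 𝒳 𝒴).symm
        refine ⟨n, ?_, ?_⟩
        · rw [← hn]
          rfl
        · rw [← hn]
          rfl
      · intro h5
        obtain ⟨g, h6, h7⟩ := (pairRel 𝒳 𝒴).symm h5
        exact ⟨g, Prod.ext (Subtype.ext h6) (Subtype.ext h7)⟩
    exact h4
  rw [h1]

/-- Fixed points of the power map. -/
theorem fixedBy_pow {G : Type*} [Group G] [Finite G] {k : ℕ} (hk : IsK G k) (X : Type*)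
    [MulAction G X] (g : G) : MulAction.fixedBy X (g ^ k) = MulAction.fixedBy X g := by
  ext x
  rw [MulAction.mem_fixedBy, MulAction.mem_fixedBy]
  have h1 : ∀ (t : G) (m : ℕ), t • x = x → t ^ m • x = x := by
    intro t m ht
    induction m with
    | zero => rw [pow_zero, one_smul]
    | succ m ih => rw [pow_succ, mul_smul, ht, ih]
  constructor
  · intro h
    have h2 := h1 (g ^ k) k h
    rwa [hk.pow_pow] at h2
  · exact h1 g k

section core

variable {G : Type u} [Group G] [Fintype G] {M : Ideal AlgInt} {k : ℕ}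

/-- The permutation character of `G` restricted to `S`. -/
theorem permC_restrict (S : Subgroup G) [hS : S.Normal] (𝒳 : Set (Subgroup S))
    (hX : ∀ g : G, ∀ H ∈ 𝒳, cmap S g H ∈ 𝒳) (s : S) :
    (letI := actSet S 𝒳 hX; permC G 𝒳 (s : G)) = permS 𝒳 s := by
  letI := actSet S 𝒳 hX
  show (Nat.card (MulAction.fixedBy 𝒳 (s : G)) : ℂ) = _
  rw [permS]
  congr 1
  exact Nat.card_congr
    { toFun := fun H => ⟨H.1.1, H.1.2, by
        have h1 : cmap S (s : G) H.1.1 = H.1.1 := congrArg Subtype.val H.2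
        rwa [cmap_coe] at h1⟩
      invFun := fun H => ⟨⟨H.1, H.2.1⟩, Subtype.ext (by
        show cmap S (s : G) H.1 = H.1
        rw [cmap_coe]
        exact H.2.2)⟩
      left_inv := fun H => rfl
      right_inv := fun H => rfl }

/-- **The conclusion from an invariant character.** -/
theorem concl_of_phi (hM : IsPModular 2 M) (S : Subgroup G) [hS : S.Normal] [Fintype S]
    (hidx : ∃ j : ℕ, S.index = 2 ^ j) (hk : IsK G k) (𝒳 : Set (Subgroup S))
    (hX : ∀ g : G, ∀ H ∈ 𝒳, cmap S g H ∈ 𝒳) (φ : IrrCharacter S) (hφ : φ ∈ principalBlock M S)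
    (hφk : ∀ s : S, (φ : S → ℂ) (s ^ k) = (φ : S → ℂ) s) (hφG : ∀ g : G, conjIrr S g φ = φ)
    (heven : Even (charDegree (φ : S → ℂ))) (hodd : Odd (mu (permS 𝒳) (φ : S → ℂ))) :
    Concl M G S k := by
  classical
  letI := actSet S 𝒳 hX
  haveI : Finite 𝒳 := Subtype.finite
  haveI : Fintype (⊤ : Subgroup G) := Fintype.ofFinite _
  have hk1 : (φ : S → ℂ) ≠ fun _ => 1 := by
    intro h1
    rw [charDegree_def, h1] at heven
    simp at heven
  have hπ : GC (permC G 𝒳) := GC.of_rchar (rchar_perm 𝒳)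
  refine of_inertia hM S hidx hk φ hφ hφk hk1 ⊤
    (fun g => ⟨fun _ => congrArg Subtype.val (hφG g), fun _ => Subgroup.mem_top g⟩)
    le_top (π := fun t : (⊤ : Subgroup G) => permC G 𝒳 (t : G)) (hπ.comp (Subgroup.subtype ⊤))
    (fun t => by
      show (Nat.card (MulAction.fixedBy 𝒳 ((t ^ k : (⊤ : Subgroup G)) : G)) : ℂ) = _
      rw [Subgroup.coe_pow, fixedBy_pow hk]
      rfl) ?_ (Or.inl heven)
  have h1 : resTo (le_top : S ≤ ⊤) (fun t : (⊤ : Subgroup G) => permC G 𝒳 (t : G)) = permS 𝒳 := by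
    funext s
    exact permC_restrict S 𝒳 hX s
  rw [h1]
  exact hodd

/-- **The conclusion from a set of subgroups.** -/
theorem concl_of_set (hM : IsPModular 2 M) (S : Subgroup G) [hS : S.Normal] [Fintype S]
    (hidx : ∃ j : ℕ, S.index = 2 ^ j) (hk : IsK G k) (𝒳 : Set (Subgroup S))
    (hX : ∀ g : G, ∀ H ∈ 𝒳, cmap S g H ∈ 𝒳)
    (hmem : ∀ φ : IrrCharacter S, (∀ s : S, (φ : S → ℂ) (s ^ k) = (φ : S → ℂ) s) →
      Even (charDegree (φ : S → ℂ)) → Odd (mu (permS 𝒳) (φ : S → ℂ)) → φ ∈ principalBlock M S)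
    (hodd : Odd (Nat.card 𝒳 + Nat.card (Quotient (pairRel 𝒳 𝒳)))) : Concl M G S k := by
  classical
  haveI := @Fintype.ofFinite (IrrCharacter S) finite_irr
  haveI : Finite 𝒳 := Subtype.finite
  have hXS : ∀ g : S, ∀ H ∈ 𝒳, H.map (MulAut.conj g).toMonoidHom ∈ 𝒳 := by
    intro g H hH
    rw [← cmap_coe]
    exact hX _ _ hH
  have hGC : GC (permS 𝒳) := by
    letI := actS 𝒳 hXS
    have h1 : GC (permC S 𝒳) := GC.of_rchar (rchar_perm 𝒳)
    rwa [← permS_eq 𝒳 hXS] at h1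
  have hcount := (odd_card_iff hGC (a := (Nat.card (Quotient (pairRel 𝒳 𝒳)) : ℤ))
    (b := (Nat.card 𝒳 : ℤ)) (by rw [classInner_permS 𝒳 𝒳 hXS hXS]; push_cast; rfl)
    (by rw [permS_one]; push_cast; rfl)).2 (by
      rw [add_comm]
      exact_mod_cast hodd)
  have hXinv : ∀ (d : G) (s : S), permS 𝒳 (MulAut.conjNormal d s) = permS 𝒳 s := by
    intro d s
    letI := actSet S 𝒳 hX
    rw [← permC_restrict S 𝒳 hX, ← permC_restrict S 𝒳 hX]
    have h1 := (GC.of_rchar (rchar_perm (G := G) 𝒳)).cf (s : G) d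
    rw [MulAut.conjNormal_apply]
    exact h1
  have hXk : ∀ s : S, permS 𝒳 (s ^ k) = permS 𝒳 s := by
    intro s
    letI := actS 𝒳 hXS
    rw [permS_eq 𝒳 hXS]
    show (Nat.card (MulAction.fixedBy 𝒳 (s ^ k)) : ℂ) = _
    rw [fixedBy_pow (hk.sub S)]
    rfl
  obtain ⟨φ, ⟨h1, h2⟩, h3, h4⟩ := exists_inv S hidx hk ⊤
    (fun φ : IrrCharacter S => Even (charDegree (φ : S → ℂ)) ∧ Odd (mu (permS 𝒳) (φ : S → ℂ)))
    (by
      rintro d - φ ⟨h1, h2⟩
      exact ⟨by rwa [charDegree_conjIrr], by rwa [mu_conj_of_inv S d (hXinv d)]⟩)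
    (by
      rintro φ ⟨h1, h2⟩
      exact ⟨by rwa [charDegree_pw (hk.sub S)], by rwa [mu_pow (hk.sub S) hXk]⟩)
    hcount
  have hφk := (Twist.fixed_iff (hk.sub S).coprime φ).1 h4
  exact concl_of_phi hM S hidx hk 𝒳 hX φ (hmem φ hφk h1 h2) hφk
    (fun g => h3 g (Subgroup.mem_top g)) h1 h2

/-- **The conclusion from two classes of subgroups permuted by `G`.** -/
theorem concl_of_two (hM : IsPModular 2 M) (S : Subgroup G) [hS : S.Normal] [Fintype S]
    (hidx : ∃ j : ℕ, S.index = 2 ^ j) (hk : IsK G k) (𝒳 𝒴 : Set (Subgroup S))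
    (hdis : Disjoint 𝒳 𝒴) (hne : 𝒳.Nonempty)
    (hXN : ∀ g : S, ∀ H ∈ 𝒳, H.map (MulAut.conj g).toMonoidHom ∈ 𝒳)
    (hα' : ∀ g : G, ((∀ H ∈ 𝒳, cmap S g H ∈ 𝒳) ∧ (∀ H ∈ 𝒴, cmap S g H ∈ 𝒴)) ∨
      ((∀ H ∈ 𝒳, cmap S g H ∈ 𝒴) ∧ (∀ H ∈ 𝒴, cmap S g H ∈ 𝒳)))
    (hall : ¬ ∀ g : G, ∀ H ∈ 𝒳, cmap S g H ∈ 𝒳)
    (hmem : ∀ φ : IrrCharacter S, Odd (mu (permS 𝒳) (φ : S → ℂ)) →
      Even (mu (permS 𝒴) (φ : S → ℂ)) → φ ∈ principalBlock M S)
    (hodd2 : Odd (Nat.card (Quotient (pairRel 𝒳 𝒳)) + Nat.card (Quotient (pairRel 𝒳 𝒴)))) :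
    Concl M G S k := by
  classical
  obtain ⟨H₀, hH₀⟩ := hne
  have hexcl : ∀ H, H ∈ 𝒳 → H ∈ 𝒴 → False := fun H h1 h2 => Set.disjoint_left.1 hdis h1 h2
  push Not at hall
  obtain ⟨g₀, H₁, hH₁, hH₁'⟩ := hall
  have hkeep : ∀ g : G, cmap S g H₀ ∈ 𝒳 → ((∀ H ∈ 𝒳, cmap S g H ∈ 𝒳) ∧ (∀ H ∈ 𝒴, cmap S g H ∈ 𝒴)) := by
    intro g hg
    rcases hα' g with h | h
    · exact h
    · exact (hexcl _ hg (h.1 _ hH₀)).elim
  have hswap : ∀ g : G, cmap S g H₀ ∉ 𝒳 → ((∀ H ∈ 𝒳, cmap S g H ∈ 𝒴) ∧ (∀ H ∈ 𝒴, cmap S g H ∈ 𝒳)) := by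
    intro g hg
    rcases hα' g with h | h
    · exact (hg (h.1 _ hH₀)).elim
    · exact h
  let D : Subgroup G :=
    { carrier := {g | cmap S g H₀ ∈ 𝒳}
      one_mem' := by
        show cmap S 1 H₀ ∈ 𝒳
        rw [cmap_one]
        exact hH₀
      mul_mem' := by
        intro a b ha hb
        show cmap S (a * b) H₀ ∈ 𝒳
        rw [cmap_mul]
        exact (hkeep a ha).1 _ hb
      inv_mem' := by
        intro a ha
        show cmap S a⁻¹ H₀ ∈ 𝒳
        by_contra h3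
        have h4 := (hkeep a ha).2 _ ((hswap _ h3).1 H₀ hH₀)
        rw [← cmap_mul, mul_inv_cancel, cmap_one] at h4
        exact hexcl _ hH₀ h4 }
  have hmemD : ∀ g, g ∈ D ↔ cmap S g H₀ ∈ 𝒳 := fun g => Iff.rfl
  have hg₀ : g₀ ∉ D := by
    intro h
    exact hH₁' ((hkeep g₀ h).1 _ hH₁)
  have hD : D.index = 2 := by
    rw [Subgroup.index_eq_two_iff]
    refine ⟨g₀, fun b => ?_⟩
    by_cases hb : b ∈ D
    · refine Or.inr ⟨hb, fun h => ?_⟩
      rw [hmemD, cmap_mul] at h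
      exact hexcl _ h ((hkeep b hb).2 _ ((hswap g₀ hg₀).1 _ hH₀))
    · refine Or.inl ⟨?_, hb⟩
      rw [hmemD, cmap_mul]
      exact (hswap b hb).2 _ ((hswap g₀ hg₀).1 _ hH₀)
  haveI : D.Normal := Subgroup.normal_of_index_eq_two hD
  have hSD : S ≤ D := by
    intro n hn
    rw [hmemD]
    have := cmap_coe S ⟨n, hn⟩ H₀
    rw [this]
    exact hXN _ _ hH₀
  have hYN : ∀ g : S, ∀ H ∈ 𝒴, H.map (MulAut.conj g).toMonoidHom ∈ 𝒴 := by
    intro g H hH
    rw [← cmap_coe]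
    exact (hkeep (g : G) ((hmemD _).1 (hSD g.2))).2 H hH
  haveI : Fintype D := Fintype.ofFinite _
  haveI : Finite 𝒳 := Subtype.finite
  -- the action of `D` on `𝒳`
  letI : MulAction D 𝒳 :=
    { smul := fun d H => ⟨cmap S (d : G) H, (hkeep (d : G) ((hmemD _).1 d.2)).1 _ H.2⟩
      one_smul := fun H => Subtype.ext (cmap_one S H)
      mul_smul := fun a b H => Subtype.ext (cmap_mul S a b H) }
  have hres : resTo hSD (permC D 𝒳) = permS 𝒳 := by
    funext s
    show (Nat.card (MulAction.fixedBy 𝒳 (⟨(s : G), hSD s.2⟩ : D)) : ℂ) = _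
    rw [permS]
    congr 1
    exact Nat.card_congr
      { toFun := fun H => ⟨H.1.1, H.1.2, by
          have h1 : cmap S (s : G) H.1.1 = H.1.1 := congrArg Subtype.val H.2
          rwa [cmap_coe] at h1⟩
        invFun := fun H => ⟨⟨H.1, H.2.1⟩, Subtype.ext (by
          show cmap S (s : G) H.1 = H.1
          rw [cmap_coe]
          exact H.2.2)⟩
        left_inv := fun H => rfl
        right_inv := fun H => rfl }
  have hsw := hswap g₀ hg₀
  have hsw' : ∀ H ∈ 𝒴, cmap S g₀⁻¹ H ∈ 𝒳 := by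
    intro H hH
    rcases hα' g₀⁻¹ with h | h
    · have h1 := h.2 H hH
      have h2 := hsw.2 _ h1
      rw [← cmap_mul, mul_inv_cancel, cmap_one] at h2
      exact (hexcl _ h2 hH).elim
    · exact h.2 H hH
  have hres2 : (fun s : S => resTo hSD (permC D 𝒳) (MulAut.conjNormal g₀ s)) = permS 𝒴 := by
    funext s
    rw [hres, permS, permS]
    congr 1
    have hcomp : ∀ (H : Subgroup S), H.map (MulAut.conj ((MulAut.conjNormal g₀ : MulAut S) s)).toMonoidHom =
        cmap S g₀ ((cmap S g₀⁻¹ H).map (MulAut.conj s).toMonoidHom) := by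
      intro H
      have h1 := cmap_coe S ((MulAut.conjNormal g₀ : MulAut S) s) H
      rw [← h1, ← cmap_coe, ← cmap_mul, ← cmap_mul]
      congr 1
    refine Nat.card_congr
      { toFun := fun H => ⟨cmap S g₀⁻¹ H.1, ?_, ?_⟩
        invFun := fun H => ⟨cmap S g₀ H.1, ?_, ?_⟩
        left_inv := fun H => ?_
        right_inv := fun H => ?_ }
    · rcases hα' g₀⁻¹ with h | h
      · have h1 := h.1 _ H.2.1
        have h2 := hsw.1 _ h1
        rw [← cmap_mul, mul_inv_cancel, cmap_one] at h2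
        exact (hexcl _ H.2.1 h2).elim
      · exact h.1 _ H.2.1
    · have h1 := H.2.2
      rw [hcomp] at h1
      have h2 := congrArg (cmap S g₀⁻¹) h1
      rw [← cmap_mul, inv_mul_cancel, cmap_one] at h2
      exact h2
    · exact hsw.2 _ H.2.1
    · rw [hcomp, ← cmap_mul, inv_mul_cancel, cmap_one, H.2.2]
    · apply Subtype.ext
      show cmap S g₀ (cmap S g₀⁻¹ H.1) = H.1
      rw [← cmap_mul, mul_inv_cancel, cmap_one]
    · apply Subtype.ext
      show cmap S g₀⁻¹ (cmap S g₀ H.1) = H.1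
      rw [← cmap_mul, inv_mul_cancel, cmap_one]
  refine of_parity_pair hM S hidx hk D hD hSD (π := permC D 𝒳) (GC.of_rchar (rchar_perm 𝒳)) ?_ g₀ hg₀
    ?_ (a := (Nat.card (Quotient (pairRel 𝒳 𝒳)) : ℤ)) (b := (Nat.card (Quotient (pairRel 𝒳 𝒴)) : ℤ))
    ?_ ?_ (by exact_mod_cast hodd2)
  · intro t
    show (Nat.card (MulAction.fixedBy 𝒳 (t ^ k)) : ℂ) = _
    rw [fixedBy_pow (hk.sub D)]
    rfl
  · intro φ h1 h2
    rw [hres2] at h2
    rw [hres] at h1
    exact hmem φ h1 h2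
  · rw [hres, classInner_permS 𝒳 𝒳 hXN hXN]
    push_cast
    rfl
  · rw [hres2, hres, classInner_permS 𝒳 𝒴 hXN hYN]
    push_cast
    rfl

end core

end Cfsg.Agent.H610.EB
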