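import Cfsg.Agent.H610.EB.Cyc

/-!
# Odd extensions by induction from supplements

* `CycExt.of_sub`: a power-fixed generalized character `π₀` of `P`, `S P = S⟨g⟩`, with
  `[π₀, χ]` odd on `S ∩ P`.
* `CycExt.of_norm`: the norm of the restriction of `χ` to a Sylow 2-subgroup is odd.
-/

set_option autoImplicit false
set_option linter.unusedSectionVars false
set_option linter.style.haveILetI false

namespace Cfsg.Agent.H610.EB

open Cfsg Cfsg.Agent.Characters Cfsg.Agent.H694
open scoped ComplexConjugate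
open Cfsg.Agent.Characters.Core
open Cfsg.Agent.OddOrderCharacters.NormalInduced (conjFn)
open Cfsg.Agent.OddOrderCharacters.PF9.CliffGen (resTo irr_ind)
open Cfsg.Agent.Blocks.Local Cfsg.Agent.Blocks.Basic
open Cfsg.Agent.Blocks.Covering (conjIrr)

universe u v

/-- Inner products and bijections. -/
theorem classInner_equiv {A : Type*} {B : Type*} [Group A] [Group B] [Fintype A] [Fintype B]
    (e : A ≃ B) (f g : B → ℂ) : classInner (fun a => f (e a)) (fun a => g (e a)) = classInner f g := by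
  rw [Core.classInner_def, Core.classInner_def, Nat.card_congr e]
  congr 1
  exact Fintype.sum_equiv e _ _ fun a => rfl

variable {G : Type u} [Group G] [Fintype G] {M : Ideal AlgInt} {k : ℕ}

/-- **Odd extensions by induction from a supplement.** -/
theorem CycExt.of_sub (hk : IsK G k) (S : Subgroup G) [hS : S.Normal] [Fintype S] (g : G)
    (P : Subgroup G) [Fintype P] (hP : P ≤ S ⊔ Subgroup.zpowers g)
    (hSP : S ⊔ Subgroup.zpowers g ≤ S ⊔ P) (N : Subgroup G) [Fintype N] (hNS : N ≤ S) (hNP : N ≤ P)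
    (hN : S ⊓ P ≤ N) {π₀ : P → ℂ} (hπ₀ : GC π₀) (hπ₀k : ∀ t : P, π₀ (t ^ k) = π₀ t) {χ : S → ℂ}
    (hχ : IsIrrCharacter S χ) (hodd : Odd (mu (resTo hNP π₀) (resTo hNS χ))) : CycExt S k χ g := by
  classical
  set H : Subgroup G := S ⊔ Subgroup.zpowers g with hH
  letI iH : Fintype H := Fintype.ofFinite _
  letI iS : Fintype (S.subgroupOf H) := Fintype.ofFinite _
  have hSH : S ≤ H := le_sup_left
  show OddExt H (S.subgroupOf H) k (dn S H hSH χ)
  haveI : Fintype (P.subgroupOf H) := Fintype.ofFinite _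
  let eP : P.subgroupOf H ≃* P := Subgroup.subgroupOfEquivOfLe hP
  have hπ₁ : GC (fun x : P.subgroupOf H => π₀ (eP x)) := hπ₀.comp eP.toMonoidHom
  have hkH : IsK H k := hk.sub H
  have htop : S.subgroupOf H ⊔ P.subgroupOf H = ⊤ := by
    rw [← Subgroup.subgroupOf_sup hSH hP, Subgroup.subgroupOf_eq_top]
    exact hSP
  refine ⟨indFun (P.subgroupOf H) (fun x : P.subgroupOf H => π₀ (eP x)), hπ₁.indFun _,
    fun t => indFun_pow _ hkH (fun x => by
      show π₀ (eP (x ^ k)) = π₀ (eP x)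
      rw [map_pow, hπ₀k]) t, ?_⟩
  have hres := res_indFun (S.subgroupOf H) (P.subgroupOf H) htop hπ₁.cf
  haveI : Fintype ((P.subgroupOf H).subgroupOf (S.subgroupOf H)) := Fintype.ofFinite _
  -- the equivalence with `N`
  let ε : ((P.subgroupOf H).subgroupOf (S.subgroupOf H)) ≃ N :=
    { toFun := fun x => ⟨((x : S.subgroupOf H) : H), hN ⟨Subgroup.mem_subgroupOf.1 (x : S.subgroupOf H).2,
        Subgroup.mem_subgroupOf.1 (Subgroup.mem_subgroupOf.1 x.2)⟩⟩
      invFun := fun n => ⟨⟨⟨n, hSH (hNS n.2)⟩, Subgroup.mem_subgroupOf.2 (hNS n.2)⟩,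
        Subgroup.mem_subgroupOf.2 (Subgroup.mem_subgroupOf.2 (hNP n.2))⟩
      left_inv := fun x => rfl
      right_inv := fun n => rfl }
  have hcl : IsClassFunction (S.subgroupOf H) (dn S H hSH χ) :=
    isIrr_isClassFunction (irr_dn S H hSH hχ)
  have h1 : classInner (fun n : S.subgroupOf H =>
      indFun (P.subgroupOf H) (fun x : P.subgroupOf H => π₀ (eP x)) n) (dn S H hSH χ) =
      classInner (resTo hNP π₀) (resTo hNS χ) := by
    rw [hres, Cfsg.Agent.OddOrderCharacters.Clifford.classInner_indFun _ _ _ hcl]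
    exact classInner_equiv ε (resTo hNP π₀) (resTo hNS χ)
  have h2 : mu (fun n : S.subgroupOf H =>
      indFun (P.subgroupOf H) (fun x : P.subgroupOf H => π₀ (eP x)) n) (dn S H hSH χ) =
      mu (resTo hNP π₀) (resTo hNS χ) := by
    rw [mu, mu, h1]
  rw [h2]
  exact hodd

/-! ### Odd extensions in a group with cyclic quotient -/

section ext

variable {H : Type u} [Group H] [Fintype H]

/-- **Odd extensions by induction from a supplement**, general form. -/
theorem OddExt.of_sup (hk : IsK H k) (N : Subgroup H) [hN : N.Normal] [Fintype N]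
    (P : Subgroup H) [Fintype P] (htop : N ⊔ P = ⊤) [Fintype (N.subgroupOf P)] {π₀ : P → ℂ}
    (hπ₀ : GC π₀) (hπ₀k : ∀ t : P, π₀ (t ^ k) = π₀ t) {φ : N → ℂ} (hφ : IsIrrCharacter N φ)
    (hodd : Odd (mu (fun d : N.subgroupOf P => π₀ d)
      (fun d : N.subgroupOf P => φ ⟨((d : P) : H), Subgroup.mem_subgroupOf.1 d.2⟩))) :
    OddExt H N k φ := by
  classical
  refine ⟨indFun P π₀, hπ₀.indFun P, fun t => indFun_pow P hk hπ₀k t, ?_⟩
  haveI : Fintype (P.subgroupOf N) := Fintype.ofFinite _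
  have hres := res_indFun N P htop hπ₀.cf
  let ε : (P.subgroupOf N) ≃ (N.subgroupOf P) :=
    { toFun := fun x => ⟨⟨((x : N) : H), Subgroup.mem_subgroupOf.1 x.2⟩,
        Subgroup.mem_subgroupOf.2 (x : N).2⟩
      invFun := fun x => ⟨⟨((x : P) : H), Subgroup.mem_subgroupOf.1 x.2⟩,
        Subgroup.mem_subgroupOf.2 (x : P).2⟩
      left_inv := fun x => rfl
      right_inv := fun x => rfl }
  have h1 : classInner (fun n : N => indFun P π₀ n) φ = classInner (fun d : N.subgroupOf P => π₀ d)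
      (fun d : N.subgroupOf P => φ ⟨((d : P) : H), Subgroup.mem_subgroupOf.1 d.2⟩) := by
    rw [hres, Cfsg.Agent.OddOrderCharacters.Clifford.classInner_indFun _ _ _
      (isIrr_isClassFunction hφ)]
    exact classInner_equiv ε (fun d : N.subgroupOf P => π₀ d)
      (fun d : N.subgroupOf P => φ ⟨((d : P) : H), Subgroup.mem_subgroupOf.1 d.2⟩)
  have h2 : mu (fun n : N => indFun P π₀ n) φ = mu (fun d : N.subgroupOf P => π₀ d)
      (fun d : N.subgroupOf P => φ ⟨((d : P) : H), Subgroup.mem_subgroupOf.1 d.2⟩) := by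
    rw [mu, mu, h1]
  rw [h2]
  exact hodd

/-- The parity of the number of constituents of odd multiplicity. -/
theorem odd_card_norm {π : H → ℂ} (hπ : GC π) {a : ℤ} (ha : classInner π π = a) (hodd : Odd a) :
    Odd (Nat.card {χ : IrrCharacter H // Odd (mu π (χ : H → ℂ))}) := by
  classical
  haveI := @Fintype.ofFinite (IrrCharacter H) finite_irr
  have h1 : a = ∑ φ : IrrCharacter H, mu π (φ : H → ℂ) * mu π (φ : H → ℂ) := by
    have h2 := classInner_eq_sum hπ.cf hπ.cf
    rw [ha] at h2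
    have h3 : ∀ φ : IrrCharacter H, classInner π (φ : H → ℂ) * conj (classInner π (φ : H → ℂ)) =
        ((mu π (φ : H → ℂ) * mu π (φ : H → ℂ) : ℤ) : ℂ) := by
      intro φ
      rw [hπ.mu_spec φ.2, map_intCast]
      push_cast
      rfl
    rw [Finset.sum_congr rfl fun φ _ => h3 φ] at h2
    exact_mod_cast h2
  have key : ((Nat.card {χ : IrrCharacter H // Odd (mu π (χ : H → ℂ))} : ℕ) : ZMod 2) =
      ((a : ℤ) : ZMod 2) := by
    rw [Nat.card_eq_fintype_card, Fintype.card_subtype, Finset.card_filter, h1]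
    push_cast
    refine Finset.sum_congr rfl fun φ _ => ?_
    split_ifs with h
    · obtain ⟨n, hn⟩ := h
      rw [hn]
      push_cast
      have e : ∀ x : ZMod 2, 1 = (2 * x + 1) * (2 * x + 1) := by decide
      exact e _
    · have h6 : Even (mu π (φ : H → ℂ)) := Int.not_odd_iff_even.1 h
      obtain ⟨n, hn⟩ := h6
      rw [hn]
      push_cast
      have e : ∀ x : ZMod 2, 0 = (x + x) * (x + x) := by decide
      exact e _
  rw [← Nat.not_even_iff_odd, even_iff_two_dvd, ← ZMod.natCast_eq_zero_iff, key,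
    ZMod.intCast_zmod_eq_zero_iff_dvd]
  intro h
  exact (Int.not_even_iff_odd.2 hodd) (even_iff_two_dvd.2 (by exact_mod_cast h))

/-- A power map on a 2-group is the identity. -/
theorem IsK.pow_eq (hk : IsK H k) {P : Subgroup H} (hP : IsPGroup 2 P) (x : P) : x ^ k = x := by
  obtain ⟨n, hn⟩ := hP x
  refine (hk.sub P).two x ?_
  obtain ⟨i, -, hi⟩ := (Nat.dvd_prime_pow Nat.prime_two).1 (orderOf_dvd_of_pow_eq_one hn)
  exact ⟨i, hi⟩

/-- `N P = H` for a Sylow 2-subgroup and a normal subgroup of 2-power index. -/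
theorem sup_sylow (N : Subgroup H) [N.Normal] (hidx : ∃ j : ℕ, N.index = 2 ^ j)
    (P : Sylow 2 H) : N ⊔ (P : Subgroup H) = ⊤ := by
  haveI : Fact (Nat.Prime 2) := ⟨Nat.prime_two⟩
  rw [← Subgroup.index_eq_one]
  obtain ⟨j, hj⟩ := hidx
  have h1 : (N ⊔ (P : Subgroup H)).index ∣ 2 ^ j := by
    rw [← hj]
    exact Subgroup.index_dvd_of_le le_sup_left
  have h2 : (N ⊔ (P : Subgroup H)).index ∣ (P : Subgroup H).index :=
    Subgroup.index_dvd_of_le le_sup_right
  have h3 : ¬ 2 ∣ (P : Subgroup H).index := P.not_dvd_index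
  have h4 : Nat.Coprime (2 ^ j) (P : Subgroup H).index :=
    Nat.Coprime.pow_left _ ((Nat.Prime.coprime_iff_not_dvd Nat.prime_two).2 h3)
  exact Nat.eq_one_of_dvd_coprimes h4 h1 h2

theorem odd_index_inf (N : Subgroup H) [N.Normal] (P : Sylow 2 H) :
    Odd ((P : Subgroup H).subgroupOf N).index := by
  haveI : Fact (Nat.Prime 2) := ⟨Nat.prime_two⟩
  have h1 : (P : Subgroup H).relIndex N * (N.relIndex (N ⊔ P) ) =
      (N.relIndex P) * (P : Subgroup H).relIndex (N ⊔ P) := by
    have h2 := Subgroup.relIndex_mul_relIndex (N ⊓ P) N (N ⊔ P) inf_le_left le_sup_left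
    have h3 := Subgroup.relIndex_mul_relIndex (N ⊓ P) (P : Subgroup H) (N ⊔ P) inf_le_right
      le_sup_right
    rw [← h3, Subgroup.inf_relIndex_left, Subgroup.inf_relIndex_right] at h2
    exact h2
  have h2 : N.relIndex (N ⊔ P) = N.relIndex P := by
    rw [sup_comm, Subgroup.relIndex_sup_right]
  have h3 : N.relIndex (P : Subgroup H) ≠ 0 := Subgroup.index_ne_zero_of_finite
  have h4 : (P : Subgroup H).relIndex N = (P : Subgroup H).relIndex (N ⊔ P) := by
    rw [h2, mul_comm] at h1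
    exact Nat.eq_of_mul_eq_mul_left (Nat.pos_of_ne_zero h3) h1
  have h5 : (P : Subgroup H).relIndex (N ⊔ P) ∣ (P : Subgroup H).index :=
    Subgroup.relIndex_dvd_index_of_le le_sup_right
  rw [← Nat.not_even_iff_odd, even_iff_two_dvd]
  intro h
  exact P.not_dvd_index ((h.trans (by rw [← h4] at h5; exact h5)))

/-- The norm of the restriction to a Sylow subgroup. -/
theorem norm_sylow {N : Type*} [Group N] [Fintype N] {φ : N → ℂ} (hφ : IsClassFunction N φ)
    (P Q : Subgroup N) [Fintype P] [Fintype Q] (hP : IsPGroup 2 P) (hPi : Odd P.index)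
    (hQ : IsPGroup 2 Q) (hQi : Odd Q.index) :
    classInner (fun x : P => φ x) (fun x : P => φ x) =
      classInner (fun x : Q => φ x) (fun x : Q => φ x) := by
  haveI : Fact (Nat.Prime 2) := ⟨Nat.prime_two⟩
  let P' : Sylow 2 N := hP.toSylow (fun h => (Nat.not_even_iff_odd.2 hPi) (even_iff_two_dvd.2 h))
  let Q' : Sylow 2 N := hQ.toSylow (fun h => (Nat.not_even_iff_odd.2 hQi) (even_iff_two_dvd.2 h))
  obtain ⟨g, hg⟩ := MulAction.exists_smul_eq N P' Q'
  have hg' : ∀ x : N, x ∈ P → g * x * g⁻¹ ∈ Q := by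
    intro x hx
    have h1 : (g • P' : Sylow 2 N) = Q' := hg
    have h2 : g * x * g⁻¹ ∈ (g • P' : Sylow 2 N) := by
      have h3 := Subgroup.smul_mem_pointwise_smul x (MulAut.conj g) P hx
      exact h3
    rw [h1] at h2
    exact h2
  have hg'' : ∀ x : N, x ∈ Q → g⁻¹ * x * g ∈ P := by
    intro x hx
    have h1 : (g • P' : Sylow 2 N) = Q' := hg
    have h2 : x ∈ (g • P' : Sylow 2 N) := by
      rw [h1]
      exact hx
    obtain ⟨y, hy, hyx⟩ := h2
    have h3 : g * y * g⁻¹ = x := hyx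
    have h4 : g⁻¹ * x * g = y := by
      rw [← h3]
      group
    rw [h4]
    exact hy
  let e : P ≃ Q :=
    { toFun := fun x => ⟨g * x * g⁻¹, hg' x x.2⟩
      invFun := fun x => ⟨g⁻¹ * x * g, hg'' x x.2⟩
      left_inv := fun x => Subtype.ext (by
        show g⁻¹ * (g * x * g⁻¹) * g = x
        group)
      right_inv := fun x => Subtype.ext (by
        show g * (g⁻¹ * x * g) * g⁻¹ = x
        group) }
  have h1 := classInner_equiv e (fun x : Q => φ x) (fun x : Q => φ x)
  rw [← h1]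
  have h2 : (fun a : P => (fun x : Q => φ x) (e a)) = fun x : P => φ x := by
    funext a
    exact hφ (a : N) g
  rw [h2]

/-- **SYL-NORM**: if the norm of the restriction of the invariant character `φ` to a Sylow
2-subgroup is odd, there is an odd extension. -/
theorem OddExt.of_norm (N : Subgroup H) [hN : N.Normal] [Fintype N] (hcyc : IsCyclic (H ⧸ N))
    (hidx : ∃ j : ℕ, N.index = 2 ^ j) (hk : IsK H k) {φ : N → ℂ} (hφ : IsIrrCharacter N φ)
    (hinv : ∀ g, conjFn N φ g = φ) (Q : Subgroup N) [Fintype Q] (hQ : IsPGroup 2 Q)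
    (hQi : Odd Q.index) {a : ℤ} (ha : classInner (fun x : Q => φ x) (fun x : Q => φ x) = a)
    (hodd : Odd a) : OddExt H N k φ := by
  classical
  haveI : Fact (Nat.Prime 2) := ⟨Nat.prime_two⟩
  obtain ⟨P⟩ : Nonempty (Sylow 2 H) := inferInstance
  haveI : Fintype (P : Subgroup H) := Fintype.ofFinite _
  haveI : Fintype (N.subgroupOf (P : Subgroup H)) := Fintype.ofFinite _
  haveI : Fintype ((P : Subgroup H).subgroupOf N) := Fintype.ofFinite _
  have htop := sup_sylow N hidx P
  set F : N.subgroupOf (P : Subgroup H) → ℂ :=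
    fun d => φ ⟨((d : P) : H), Subgroup.mem_subgroupOf.1 d.2⟩ with hF
  -- the norm
  let ε : ((P : Subgroup H).subgroupOf N) ≃ (N.subgroupOf (P : Subgroup H)) :=
    { toFun := fun x => ⟨⟨((x : N) : H), Subgroup.mem_subgroupOf.1 x.2⟩,
        Subgroup.mem_subgroupOf.2 (x : N).2⟩
      invFun := fun x => ⟨⟨((x : P) : H), Subgroup.mem_subgroupOf.1 x.2⟩,
        Subgroup.mem_subgroupOf.2 (x : P).2⟩
      left_inv := fun x => rfl
      right_inv := fun x => rfl }
  have hP1 : IsPGroup 2 ((P : Subgroup H).subgroupOf N) := by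
    refine P.isPGroup'.of_injective ((N.subtype.comp (Subgroup.subtype _)).codRestrict
      (P : Subgroup H) (fun x => Subgroup.mem_subgroupOf.1 x.2)) ?_
    intro x y hxy
    have h1 := congrArg Subtype.val hxy
    exact Subtype.ext (Subtype.ext h1)
  have hFn : classInner F F = a := by
    rw [← classInner_equiv ε F F, ← ha]
    exact norm_sylow (isIrr_isClassFunction hφ) _ _ hP1 (odd_index_inf N P) hQ hQi
  let f₀ : N.subgroupOf (P : Subgroup H) →* N :=
    { toFun := fun d => ⟨((d : P) : H), Subgroup.mem_subgroupOf.1 d.2⟩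
      map_one' := rfl
      map_mul' := fun _ _ => rfl }
  have hFc : IsCharacter (N.subgroupOf (P : Subgroup H)) F :=
    isCharacter_comp f₀ (isIrr_isCharacter hφ)
  have hcard := odd_card_norm (GC.of_isCharacter hFc) hFn hodd
  have hPN : ∃ j : ℕ, (N.subgroupOf (P : Subgroup H)).index = 2 ^ j := by
    obtain ⟨n, hn⟩ := IsPGroup.iff_card.1 P.isPGroup'
    have h1 : (N.subgroupOf (P : Subgroup H)).index ∣ 2 ^ n := by
      rw [← hn]
      exact Subgroup.index_dvd_card (N.subgroupOf (P : Subgroup H))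
    obtain ⟨i, -, hi⟩ := (Nat.dvd_prime_pow Nat.prime_two).1 h1
    exact ⟨i, hi⟩
  have hf1 : ∀ d ∈ (⊤ : Subgroup (P : Subgroup H)), ∀ ξ : IrrCharacter (N.subgroupOf (P : Subgroup H)),
      Odd (mu F (ξ : N.subgroupOf (P : Subgroup H) → ℂ)) →
      Odd (mu F (conjIrr (N.subgroupOf (P : Subgroup H)) d ξ : N.subgroupOf (P : Subgroup H) → ℂ)) := by
    intro d _ ξ hξ
    rw [mu_conj_of_inv (N.subgroupOf (P : Subgroup H)) d (F := F) _ ξ]
    · exact hξ
    · intro s
      exact congrFun (hinv (d : H)) ⟨((s : P) : H), Subgroup.mem_subgroupOf.1 s.2⟩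
  have hf2 : ∀ ξ : IrrCharacter (N.subgroupOf (P : Subgroup H)),
      Odd (mu F (ξ : N.subgroupOf (P : Subgroup H) → ℂ)) →
      Odd (mu F (Twist.pw ((hk.sub (P : Subgroup H)).sub
        (N.subgroupOf (P : Subgroup H))).coprime ξ : N.subgroupOf (P : Subgroup H) → ℂ)) := by
    intro ξ hξ
    have h1 : (Twist.pw ((hk.sub (P : Subgroup H)).sub (N.subgroupOf (P : Subgroup H))).coprime ξ :
        N.subgroupOf (P : Subgroup H) → ℂ) = ξ := by
      funext x
      have hD : IsPGroup 2 (N.subgroupOf (P : Subgroup H)) := P.isPGroup'.to_subgroup _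
      rw [Twist.pw_apply, (hk.sub (P : Subgroup H)).pow_eq hD x]
    rw [h1]
    exact hξ
  have hex := exists_inv (N.subgroupOf (P : Subgroup H)) hPN (hk.sub (P : Subgroup H)) ⊤
    (fun ξ : IrrCharacter (N.subgroupOf (P : Subgroup H)) =>
      Odd (mu F (ξ : N.subgroupOf (P : Subgroup H) → ℂ))) hf1 hf2 hcard
  obtain ⟨ξ, hξ1, hξ2, -⟩ := hex
  -- extend to `P`
  have hcycP : IsCyclic ((P : Subgroup H) ⧸ N.subgroupOf (P : Subgroup H)) := by
    let f : (P : Subgroup H) ⧸ N.subgroupOf (P : Subgroup H) →* H ⧸ N :=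
      QuotientGroup.map (N.subgroupOf (P : Subgroup H)) N (P : Subgroup H).subtype (fun x hx => hx)
    refine isCyclic_of_injective f ?_
    rw [injective_iff_map_eq_one]
    intro x
    obtain ⟨y, rfl⟩ := QuotientGroup.mk_surjective x
    intro hx
    rw [QuotientGroup.eq_one_iff]
    have h1 : (QuotientGroup.mk ((y : H)) : H ⧸ N) = 1 := hx
    exact Subgroup.mem_subgroupOf.2 ((QuotientGroup.eq_one_iff _).1 h1)
  have hexχ := Cfsg.Agent.S0886.result (N.subgroupOf (P : Subgroup H)) hcycP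
    (ξ : N.subgroupOf (P : Subgroup H) → ℂ) ξ.2 (by
      intro g n
      have h1 := congrArg Subtype.val (hξ2 g (Subgroup.mem_top g))
      exact congrFun h1 n)
  obtain ⟨χ, hχ, hχξ⟩ := hexχ
  refine OddExt.of_sup hk N P htop (GC.of_irr hχ) (fun t => by rw [hk.pow_eq P.isPGroup' t]) hφ ?_
  have h2 : (fun d : N.subgroupOf (P : Subgroup H) => χ d) = (ξ : _ → ℂ) := funext hχξ
  rw [h2]
  -- symmetric
  have h3 : mu (ξ : N.subgroupOf (P : Subgroup H) → ℂ) F = mu F (ξ : _ → ℂ) := by
    have h4 := irr_mu_spec hFc ξ.2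
    apply mu_eq
    rw [← classInner_conj_symm, h4, map_intCast]
  show Odd (mu (ξ : N.subgroupOf (P : Subgroup H) → ℂ) F)
  rw [h3]
  exact hξ1

end ext

end Cfsg.Agent.H610.EB
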