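import Cfsg.Agent.H610.EB.CycSub
import Cfsg.Agent.H611.EB.Odd
import Cfsg.Agent.H684.EB.Base

/-!
# Characters invariant under all automorphisms

* `RPhi S φ`: `φ` is an irreducible character of even degree in the principal 2-block of `S`,
  invariant under all automorphisms, fixed by the power maps of S4522, with the odd extension
  property for all `H` with `H / S` cyclic of 2-power order.
* `RPhi.evenJ`, `RPhi.evenB`: such a character gives `EvenJ S` and `EvenB S`.
* `RPhi.of_norm`: the odd extension property follows if the norm of the restriction of `φ` to a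
  Sylow 2-subgroup is odd.
-/

set_option autoImplicit false
set_option linter.unusedSectionVars false
set_option linter.style.haveILetI false

namespace Cfsg.Agent.H610.EB

open Cfsg Cfsg.Agent.Characters Cfsg.Agent.H694 Cfsg.Agent.H684.EB
open scoped ComplexConjugate
open Cfsg.Agent.Characters.Core
open Cfsg.Agent.OddOrderCharacters.NormalInduced (conjFn)
open Cfsg.Agent.OddOrderCharacters.PF9.CliffGen (resTo irr_ind)
open Cfsg.Agent.Blocks.Local Cfsg.Agent.Blocks.Basic
open Cfsg.Agent.Blocks.Covering (conjIrr conjIrr_apply)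

universe u v

/-- The characters used in the rows with an `Aut`-invariant character. -/
structure RPhi (S : Type u) [Group S] [Fintype S] (φ : S → ℂ) : Prop where
  irr : IsIrrCharacter S φ
  even : Even (charDegree φ)
  fix : ∀ k : ℕ, IsK S k → ∀ s : S, φ (s ^ k) = φ s
  inv : ∀ a : S ≃* S, (fun s => φ (a s)) = φ
  mem : ∀ M : Ideal AlgInt, IsPModular 2 M → (⟨φ, irr⟩ : IrrCharacter S) ∈ principalBlock M S
  ext : ∀ (H : Type u) [Group H] [Fintype H] (N : Subgroup H) [N.Normal] [Fintype N] (e : S ≃* N),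
    Subgroup.centralizer (N : Set H) = ⊥ → IsCyclic (H ⧸ N) → (∃ j : ℕ, N.index = 2 ^ j) →
    ∀ k : ℕ, IsK H k → OddExt H N k (fun n => φ (e.symm n))

section chain

variable {G : Type u} [Group G] [Fintype G] {M : Ideal AlgInt} {k : ℕ}

/-- The decomposition of an element in a 2-element and an element of odd order. -/
theorem exists_two_part (g : G) : ∃ u v : G, u ∈ Subgroup.zpowers g ∧ v ∈ Subgroup.zpowers g ∧
    (∃ j : ℕ, orderOf u = 2 ^ j) ∧ Odd (orderOf v) ∧ g = u * v := by
  have hpos := orderOf_pos g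
  obtain ⟨a, m, hm, ham⟩ := Nat.exists_eq_two_pow_mul_odd hpos.ne'
  have ha0 : (2 : ℕ) ^ a ≠ 0 := by positivity
  have hm0 : m ≠ 0 := by
    rintro rfl
    exact absurd hm (by decide)
  have hcop : Nat.Coprime (2 ^ a) m := Nat.Coprime.pow_left a (Nat.coprime_two_left.2 hm)
  -- Bezout
  have hbez : (1 : ℤ) = (m : ℤ) * Nat.gcdB (2 ^ a) m + ((2 ^ a : ℕ) : ℤ) * Nat.gcdA (2 ^ a) m := by
    have h1 := Nat.gcd_eq_gcd_ab (2 ^ a) m
    rw [hcop] at h1
    rw [add_comm]
    exact_mod_cast h1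
  have h2 : g = (g ^ m) ^ Nat.gcdB (2 ^ a) m * (g ^ (2 ^ a)) ^ Nat.gcdA (2 ^ a) m := by
    rw [← zpow_natCast g m, ← zpow_natCast g (2 ^ a), ← zpow_mul, ← zpow_mul, ← zpow_add, ← hbez,
      zpow_one]
  refine ⟨(g ^ m) ^ Nat.gcdB (2 ^ a) m, (g ^ (2 ^ a)) ^ Nat.gcdA (2 ^ a) m,
    Subgroup.zpow_mem _ (Subgroup.npow_mem_zpowers g m) _,
    Subgroup.zpow_mem _ (Subgroup.npow_mem_zpowers g _) _, ?_, ?_, h2⟩
  · have h3 : orderOf ((g ^ m) ^ Nat.gcdB (2 ^ a) m) ∣ 2 ^ a := by
      rw [orderOf_dvd_iff_pow_eq_one, ← zpow_natCast, ← zpow_mul, mul_comm, zpow_mul, zpow_natCast,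
        ← pow_mul, show m * 2 ^ a = orderOf g by rw [ham]; ring, pow_orderOf_eq_one, one_zpow]
    obtain ⟨i, -, hi⟩ := (Nat.dvd_prime_pow Nat.prime_two).1 h3
    exact ⟨i, hi⟩
  · have h3 : orderOf ((g ^ (2 ^ a)) ^ Nat.gcdA (2 ^ a) m) ∣ m := by
      rw [orderOf_dvd_iff_pow_eq_one, ← zpow_natCast, ← zpow_mul, mul_comm, zpow_mul, zpow_natCast,
        ← pow_mul, show 2 ^ a * m = orderOf g by rw [ham], pow_orderOf_eq_one, one_zpow]
    exact Odd.of_dvd_nat hm h3

/-- Elements of odd order lie in normal subgroups of 2-power index. -/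
theorem mem_of_odd (J : Subgroup G) [J.Normal] (hidx : ∃ j : ℕ, J.index = 2 ^ j) {v : G}
    (hv : Odd (orderOf v)) : v ∈ J := by
  obtain ⟨j, hj⟩ := hidx
  rw [← QuotientGroup.eq_one_iff]
  have h1 : orderOf (QuotientGroup.mk v : G ⧸ J) ∣ 2 ^ j := by
    rw [← hj]
    exact orderOf_dvd_natCard _
  have h2 : orderOf (QuotientGroup.mk v : G ⧸ J) ∣ orderOf v :=
    orderOf_map_dvd (QuotientGroup.mk' J) v
  have h3 : Nat.Coprime (2 ^ j) (orderOf v) := Nat.Coprime.pow_left j (Nat.coprime_two_left.2 hv)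
  exact orderOf_eq_one_iff.1 (Nat.eq_one_of_dvd_coprimes h3 h1 h2)

/-- Elements of 2-power order of a normal overgroup of odd relative index lie in the subgroup. -/
theorem mem_of_two (N J : Subgroup G) [N.Normal] (hodd : Odd (N.relIndex J)) {u : G} (hu : u ∈ J)
    (ho : ∃ j : ℕ, orderOf u = 2 ^ j) : u ∈ N := by
  obtain ⟨j, hj⟩ := ho
  have h1 : (⟨u, hu⟩ : J) ^ (N.subgroupOf J).index ∈ N.subgroupOf J := Subgroup.pow_index_mem _ _
  rw [Subgroup.mem_subgroupOf] at h1
  have h2 : u ^ N.relIndex J ∈ N := h1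
  have h3 : u ^ 2 ^ j ∈ N := by
    rw [← hj, pow_orderOf_eq_one]
    exact N.one_mem
  have h4 : Nat.Coprime (2 ^ j) (N.relIndex J) :=
    Nat.Coprime.pow_left j (Nat.coprime_two_left.2 hodd)
  rw [← QuotientGroup.eq_one_iff] at h2 h3 ⊢
  rw [QuotientGroup.mk_pow] at h2 h3
  exact orderOf_eq_one_iff.1 (Nat.eq_one_of_dvd_coprimes h4 (orderOf_dvd_of_pow_eq_one h3)
    (orderOf_dvd_of_pow_eq_one h2))

variable (N J : Subgroup G) [hN : N.Normal] [hJ : J.Normal] [Fintype N] [Fintype J] (hNJ : N ≤ J)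

/-- The restriction of the fixed character over an invariant character. -/
theorem res_eq_of_over {φ : N → ℂ} (hφ : IsIrrCharacter N φ) (hinv : ∀ g ∈ J, conjFn N φ g = φ)
    {χ : J → ℂ} (hχ : IsIrrCharacter J χ) (h0 : classInner (resTo hNJ χ) φ ≠ 0) :
    resTo hNJ χ = (mu (resTo hNJ χ) φ : ℂ) • φ := by
  classical
  haveI : Fintype (N.subgroupOf J) := Fintype.ofFinite _
  have hcr : IsCharacter N (resTo hNJ χ) :=
    Cfsg.Agent.OddOrderCharacters.PF9.CliffGen.isCharacter_resTo hNJ (isIrr_isCharacter hχ)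
  have hcI := irr_mu_spec hcr hφ
  have h1 : classInner (fun n : N.subgroupOf J => χ n) (dn N J hNJ φ) ≠ 0 := by
    have h2 := classInner_dn N J hNJ (resTo hNJ χ) φ
    intro h3
    apply h0
    rw [← h2]
    exact h3
  have h2 := Cfsg.Agent.OddOrderCharacters.PF9.CliffGen.res_of_invariant (N := N.subgroupOf J)
    (irr_dn N J hNJ hφ) (fun x => inv_dn N J hNJ hinv x) hχ h1
  have hφ1 : φ 1 ≠ 0 := isIrr_apply_one_ne_zero hφ
  have h3 : φ 1 • resTo hNJ χ = χ 1 • φ := by
    funext n
    show φ 1 * χ ⟨n, hNJ n.2⟩ = χ 1 * φ n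
    have h4 := h2 ⟨⟨n, hNJ n.2⟩, Subgroup.mem_subgroupOf.2 n.2⟩
    have h5 : dn N J hNJ φ ⟨⟨n, hNJ n.2⟩, Subgroup.mem_subgroupOf.2 n.2⟩ = φ n := rfl
    have h6 : dn N J hNJ φ 1 = φ 1 := by
      show φ (Subgroup.subgroupOfEquivOfLe hNJ 1) = φ 1
      rw [map_one]
    rw [h5, h6] at h4
    linear_combination h4
  have h4 := congrArg (fun F => classInner F φ) h3
  simp only [classInner_smul_left, classInner_irr_self hφ, mul_one] at h4
  rw [hcI] at h4
  have h5 : φ 1 • resTo hNJ χ = φ 1 • ((mu (resTo hNJ χ) φ : ℂ) • φ) := by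
    rw [h3, ← h4, smul_smul]
  exact smul_right_injective _ hφ1 h5

include hNJ in
/-- **The three-step chain from cyclic extensions.** -/
theorem of_cyc_inv_odd (hM : IsPModular 2 M) (hodd : Odd (N.relIndex J))
    (hidx : ∃ j : ℕ, J.index = 2 ^ j) (hk : IsK G k) (φ : IrrCharacter N)
    (hφ : φ ∈ principalBlock M N) (hφk : ∀ s : N, (φ : N → ℂ) (s ^ k) = (φ : N → ℂ) s)
    (hinv : ∀ g, conjFn N (φ : N → ℂ) g = φ)
    (hext : ∀ g, (∃ j : ℕ, orderOf g = 2 ^ j) → CycExt N k (φ : N → ℂ) g)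
    (heven : Even (charDegree (φ : N → ℂ))) : Concl M G N k := by
  classical
  haveI : Fintype (N.subgroupOf J) := Fintype.ofFinite _
  -- the character of `J`
  obtain ⟨χ, hχφ, hχk⟩ := H611.EB.exists_over (hk.sub J) (N.subgroupOf J) hodd
    (H611.EB.dnIrr N J hNJ φ) (by
      intro n
      show (φ : N → ℂ) (Subgroup.subgroupOfEquivOfLe hNJ (n ^ k)) =
        (φ : N → ℂ) (Subgroup.subgroupOfEquivOfLe hNJ n)
      rw [map_pow, hφk])
  have hover : classInner (resTo hNJ (χ : J → ℂ)) (φ : N → ℂ) ≠ 0 := by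
    rw [← classInner_dn N J hNJ]
    exact hχφ
  obtain ⟨hmem, hdeg, hmu⟩ := H611.EB.chain_facts N J hNJ hM hodd hk χ φ hχk hover
  -- `χ` is invariant
  have hχinv : ∀ g, conjFn J (χ : J → ℂ) g = χ := by
    intro g
    have h1 : conjIrr J g χ = χ := by
      refine H611.EB.unique_over (hk.sub J) (N.subgroupOf J) hodd (H611.EB.dnIrr N J hNJ φ) _ _
        ?_ hχk ?_ hχφ
      · intro x
        rw [conjIrr_apply, conjIrr_apply, map_pow, hχk]
      · let ε : N.subgroupOf J ≃ N.subgroupOf J :=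
          { toFun := fun n => ⟨MulAut.conjNormal g (n : J), Subgroup.mem_subgroupOf.2 (by
              rw [MulAut.conjNormal_apply]
              exact hN.conj_mem _ (Subgroup.mem_subgroupOf.1 n.2) g)⟩
            invFun := fun n => ⟨MulAut.conjNormal g⁻¹ (n : J), Subgroup.mem_subgroupOf.2 (by
              rw [MulAut.conjNormal_apply]
              exact hN.conj_mem _ (Subgroup.mem_subgroupOf.1 n.2) g⁻¹)⟩
            left_inv := fun n => Subtype.ext (Subtype.ext (by
              rw [MulAut.conjNormal_apply, MulAut.conjNormal_apply]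
              group))
            right_inv := fun n => Subtype.ext (Subtype.ext (by
              rw [MulAut.conjNormal_apply, MulAut.conjNormal_apply]
              group)) }
        have h2 := classInner_equiv ε (fun n : N.subgroupOf J => (χ : J → ℂ) n)
          (H611.EB.dnIrr N J hNJ φ : N.subgroupOf J → ℂ)
        have h3 : (fun n : N.subgroupOf J =>
            (H611.EB.dnIrr N J hNJ φ : N.subgroupOf J → ℂ) (ε n)) =
            (H611.EB.dnIrr N J hNJ φ : N.subgroupOf J → ℂ) := by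
          funext n
          have h4 := congrFun (hinv g) ⟨((n : J) : G), Subgroup.mem_subgroupOf.1 n.2⟩
          refine Eq.trans ?_ h4
          show (φ : N → ℂ) _ = (φ : N → ℂ) _
          congr 1
        rw [h3] at h2
        intro h4
        apply hχφ
        rw [← h2]
        exact h4
    exact congrArg Subtype.val h1
  -- the extensions
  have hχext : ∀ g, CycExt J k (χ : J → ℂ) g := by
    intro g
    obtain ⟨u, v, hu, hv, hu2, hv2, huv⟩ := exists_two_part g
    obtain ⟨π₀, hπ₀, hπ₀k, hπodd⟩ := hext u hu2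
    letI iP : Fintype ((N ⊔ Subgroup.zpowers u : Subgroup G)) := Fintype.ofFinite _
    letI iN : Fintype (N.subgroupOf (N ⊔ Subgroup.zpowers u)) := Fintype.ofFinite _
    refine CycExt.of_sub hk J g (N ⊔ Subgroup.zpowers u) ?_ ?_ N hNJ le_sup_left ?_ hπ₀ hπ₀k χ.2 ?_
    · refine sup_le (hNJ.trans le_sup_left) ?_
      rw [Subgroup.zpowers_le]
      exact (le_sup_right : Subgroup.zpowers g ≤ _) hu
    · refine sup_le le_sup_left ?_
      rw [Subgroup.zpowers_le, huv]
      refine Subgroup.mul_mem _ ?_ ?_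
      · exact (le_sup_right : (N ⊔ Subgroup.zpowers u : Subgroup G) ≤ _)
          ((le_sup_right : Subgroup.zpowers u ≤ _) (Subgroup.mem_zpowers u))
      · exact (le_sup_left : J ≤ _) (mem_of_odd J hidx hv2)
    · rintro x ⟨hxJ, hxP⟩
      obtain ⟨n, hn, z, hz, rfl⟩ := Subgroup.mem_sup_of_normal_left.1 hxP
      refine N.mul_mem hn ?_
      have hzJ : z ∈ J := by
        have h1 := J.mul_mem (J.inv_mem (hNJ hn)) hxJ
        rwa [inv_mul_cancel_left] at h1
      refine mem_of_two N J hodd hzJ ?_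
      obtain ⟨j, hj⟩ := hu2
      have h1 : orderOf z ∣ 2 ^ j := by
        rw [← hj]
        exact orderOf_dvd_of_mem_zpowers hz
      obtain ⟨i, -, hi⟩ := (Nat.dvd_prime_pow Nat.prime_two).1 h1
      exact ⟨i, hi⟩
    · rw [mu_dn N _ le_sup_left] at hπodd
      have h1 := res_eq_of_over N J hNJ φ.2 (fun g _ => hinv g) χ.2 hover
      have h2 : Odd (mu (resTo hNJ (χ : J → ℂ)) (φ : N → ℂ)) := by
        have h3 := (hmu (χ : J → ℂ) (GC.of_irr χ.2) hχk).1 (by
          rw [show mu (χ : J → ℂ) (χ : J → ℂ) = 1 from mu_eq (by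
            rw [classInner_irr_self χ.2, Int.cast_one])]
          exact odd_one)
        exact h3
      have hgc : GC (resTo (le_sup_left : N ≤ N ⊔ Subgroup.zpowers u) π₀) := hπ₀.resTo _
      have h3 : mu (resTo (le_sup_left : N ≤ N ⊔ Subgroup.zpowers u) π₀)
          (resTo hNJ (χ : J → ℂ)) =
          mu (resTo hNJ (χ : J → ℂ)) (φ : N → ℂ) *
            mu (resTo (le_sup_left : N ≤ N ⊔ Subgroup.zpowers u) π₀) (φ : N → ℂ) := by
        apply mu_eq
        conv_lhs => rw [h1]
        rw [classInner_smul_right, hgc.mu_spec φ.2, map_intCast]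
        push_cast
        ring
      rw [h3]
      exact h2.mul hπodd
  obtain ⟨ψ, h1, h2, h3, h4⟩ := of_cyc_inv' hM J hidx hk χ (hmem.2 hφ) hχk hχinv hχext
    (hdeg.2 heven)
  refine H611.EB.ConclF.descend N J hNJ (F := fun θ => θ = χ)
    ⟨ψ, h1, h2, h3, χ, rfl, hχk, h4⟩ ?_
  rintro χ' φ' rfl - hover' h1'
  -- `φ'` is conjugate to `φ`
  have h5 := res_eq_of_over N J hNJ φ.2 (fun g _ => hinv g) χ'.2 hover
  have h6 : classInner (φ : N → ℂ) (φ' : N → ℂ) ≠ 0 := by
    intro h7
    apply hover'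
    rw [h5, classInner_smul_left, h7, mul_zero]
  have h7 : φ = φ' := by
    by_contra hne
    exact h6 (classInner_irr_ne φ.2 φ'.2 (fun h => hne (Subtype.ext h)))
  apply ne_one_of_even heven
  rw [h7]
  exact h1'

end chain

/-! ### The property `EvenJ` -/

/-- The centralizer of `N` in `H`. -/
theorem centralizer_subgroupOf {G : Type u} [Group G] (N H : Subgroup G) (hNH : N ≤ H)
    (hC : Subgroup.centralizer (N : Set G) = ⊥) :
    Subgroup.centralizer ((N.subgroupOf H : Subgroup H) : Set H) = ⊥ := by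
  rw [eq_bot_iff]
  intro x hx
  rw [Subgroup.mem_centralizer_iff] at hx
  have h1 : (x : G) ∈ Subgroup.centralizer (N : Set G) := by
    rw [Subgroup.mem_centralizer_iff]
    intro n hn
    exact congrArg Subtype.val (hx ⟨n, hNH hn⟩ (Subgroup.mem_subgroupOf.2 hn))
  rw [hC, Subgroup.mem_bot] at h1
  exact Subtype.ext h1

theorem RPhi.evenJ {S : Type u} [Group S] [Fintype S] {φ : S → ℂ} (h : RPhi S φ) : EvenJ S := by
  classical
  intro G _ _ N hN iN f hC J hJ hNJ hodd hidx k hk M hM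
  obtain ⟨e⟩ := f
  haveI : Fintype J := Fintype.ofFinite _
  have hirr : IsIrrCharacter N (fun n => φ (e.symm n)) :=
    isIrr_comp e.symm.toMonoidHom e.symm.surjective h.irr
  have hdeg : charDegree (fun n : N => φ (e.symm n)) = charDegree φ := by
    rw [charDegree_def, charDegree_def, map_one]
  have hkS : IsK S k := (hk.sub N).of_injective e.toMonoidHom e.injective
  refine of_cyc_inv_odd N J hNJ hM hodd hidx hk ⟨fun n => φ (e.symm n), hirr⟩ ?_ ?_ ?_ ?_ ?_
  · exact (H611.EB.mem_comp_equiv e.symm h.irr hirr).2 (h.mem M hM)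
  · intro s
    show φ (e.symm (s ^ k)) = φ (e.symm s)
    rw [map_pow, h.fix k hkS]
  · intro g
    funext n
    have h1 := congrFun (h.inv ((e.trans (MulAut.conjNormal g : MulAut N)).trans e.symm)) (e.symm n)
    show φ (e.symm _) = φ (e.symm n)
    refine Eq.trans ?_ h1
    show φ (e.symm _) = φ (e.symm ((MulAut.conjNormal g : MulAut N) (e (e.symm n))))
    rw [MulEquiv.apply_symm_apply]
    congr 2
  · intro g hg
    set H : Subgroup G := N ⊔ Subgroup.zpowers g with hH
    letI iH : Fintype H := Fintype.ofFinite _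
    letI iS : Fintype (N.subgroupOf H) := Fintype.ofFinite _
    have hNH : N ≤ H := le_sup_left
    show OddExt H (N.subgroupOf H) k (dn N H hNH (fun n : N => φ (e.symm n)))
    refine h.ext H (N.subgroupOf H) (e.trans (Subgroup.subgroupOfEquivOfLe hNH).symm)
      (centralizer_subgroupOf N H hNH hC) (isCyclic_sup N g) ?_ k (hk.sub H)
    -- the index
    obtain ⟨j, hj⟩ := hg
    have h1 : Nat.card (H ⧸ N.subgroupOf H) ∣ 2 ^ j := by
      obtain ⟨x, hx⟩ := (isCyclic_sup N g).exists_generator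
      have hgH : g ∈ H := (le_sup_right : Subgroup.zpowers g ≤ H) (Subgroup.mem_zpowers g)
      have h2 : ∀ y : H ⧸ N.subgroupOf H, y ∈ Subgroup.zpowers (QuotientGroup.mk (⟨g, hgH⟩ : H) :
          H ⧸ N.subgroupOf H) := by
        intro y
        obtain ⟨y, rfl⟩ := QuotientGroup.mk_surjective y
        obtain ⟨s, hs, z, hz, hsz⟩ := Subgroup.mem_sup_of_normal_left.1 y.2
        obtain ⟨n, rfl⟩ := Subgroup.mem_zpowers_iff.1 hz
        refine Subgroup.mem_zpowers_iff.2 ⟨n, ?_⟩
        rw [← QuotientGroup.mk_zpow, QuotientGroup.eq, Subgroup.mem_subgroupOf]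
        have h3 : ((((⟨g, hgH⟩ : H) ^ n)⁻¹ * y : H) : G) = (g ^ n)⁻¹ * s * g ^ n := by
          rw [Subgroup.coe_mul, Subgroup.coe_inv, Subgroup.coe_zpow, ← hsz]
          group
        rw [h3]
        have h4 := hN.conj_mem s hs (g ^ n)⁻¹
        rwa [inv_inv] at h4
      have h3 : Nat.card (H ⧸ N.subgroupOf H) =
          orderOf (QuotientGroup.mk (⟨g, hgH⟩ : H) : H ⧸ N.subgroupOf H) := by
        rw [← Nat.card_zpowers, (Subgroup.eq_top_iff' _).2 h2]
        exact (Nat.card_congr Subgroup.topEquiv.toEquiv).symm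
      have h4 : orderOf (⟨g, hgH⟩ : H) = orderOf g := Subgroup.orderOf_mk g hgH
      rw [h3, ← hj, ← h4]
      exact orderOf_map_dvd (QuotientGroup.mk' (N.subgroupOf H)) (⟨g, hgH⟩ : H)
    obtain ⟨i, -, hi⟩ := (Nat.dvd_prime_pow Nat.prime_two).1 h1
    exact ⟨i, hi⟩
  · show Even (charDegree (fun n : N => φ (e.symm n)))
    rw [hdeg]
    exact h.even

theorem RPhi.evenB {S : Type u} [Group S] [Fintype S] {φ : S → ℂ} (h : RPhi S φ) : EvenB S :=
  h.evenJ.evenB

/-- **The odd extension property from the norm on a Sylow 2-subgroup.** -/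
theorem RPhi.of_norm {S : Type u} [Group S] [Fintype S] {φ : S → ℂ} (hirr : IsIrrCharacter S φ)
    (heven : Even (charDegree φ)) (hfix : ∀ k : ℕ, IsK S k → ∀ s : S, φ (s ^ k) = φ s)
    (hinv : ∀ a : S ≃* S, (fun s => φ (a s)) = φ)
    (hmem : ∀ M : Ideal AlgInt, IsPModular 2 M →
      (⟨φ, hirr⟩ : IrrCharacter S) ∈ principalBlock M S)
    (Q : Subgroup S) [Fintype Q] (hQ : IsPGroup 2 Q) (hQi : Odd Q.index) {a : ℤ}
    (ha : classInner (fun x : Q => φ x) (fun x : Q => φ x) = a) (hodd : Odd a) : RPhi S φ where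
  irr := hirr
  even := heven
  fix := hfix
  inv := hinv
  mem := hmem
  ext := by
    intro H _ _ N hN iN e hC hcyc hidx k hk
    classical
    haveI : Fintype (Q.map e.toMonoidHom) := Fintype.ofFinite _
    have hirr' : IsIrrCharacter N (fun n => φ (e.symm n)) :=
      isIrr_comp e.symm.toMonoidHom e.symm.surjective hirr
    let ε : Q ≃ Q.map e.toMonoidHom := (Q.equivMapOfInjective e.toMonoidHom e.injective).toEquiv
    refine OddExt.of_norm N hcyc hidx hk hirr' ?_ (Q.map e.toMonoidHom) (hQ.map _) ?_ (a := a) ?_ hodd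
    · intro g
      funext n
      have h1 := congrFun (hinv ((e.trans (MulAut.conjNormal g : MulAut N)).trans e.symm)) (e.symm n)
      show φ (e.symm _) = φ (e.symm n)
      refine Eq.trans ?_ h1
      show φ (e.symm _) = φ (e.symm ((MulAut.conjNormal g : MulAut N) (e (e.symm n))))
      rw [MulEquiv.apply_symm_apply]
      congr 2
    · have h1 : (Q.map e.toMonoidHom).index = Q.index := Subgroup.index_map_equiv Q e
      rw [h1]
      exact hQi
    · rw [← ha, ← classInner_equiv ε]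
      have h2 : (fun a : Q => (fun x : Q.map e.toMonoidHom => φ (e.symm x)) (ε a)) =
          fun x : Q => φ x := by
        funext x
        show φ (e.symm (e x)) = φ x
        rw [MulEquiv.symm_apply_apply]
      rw [h2]

end Cfsg.Agent.H610.EB
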