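import Cfsg.Agent.H610.EB.Red

/-!
# Criteria with local coefficients

`G` has a normal subgroup `S` of 2-power index; `k` as in S4522.

* `exists_fixed_ne`: sums over 2-group actions in characteristic 2.
* `of_local`: a power-fixed class function `Ψ` of `G` with coefficients in the local ring, such that
  the sum of the coefficients of `Ψ_S` at the even degree members of the principal block of `S` is
  nonzero modulo `M`.
* `of_local_norm`: the form with `∑ a_θ ^ 2 - (∑ a_θ θ(1)) ^ 2` over the principal block of `S`.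
-/

set_option autoImplicit false
set_option linter.unusedSectionVars false
set_option linter.style.haveILetI false

namespace Cfsg.Agent.H610.EB

open Cfsg Cfsg.Agent.Characters Cfsg.Agent.H694
open scoped ComplexConjugate
open Cfsg.Agent.Characters.Core
open Cfsg.Agent.OddOrderCharacters.NormalInduced (conjFn)
open Cfsg.Agent.OddOrderCharacters.PF9.CliffGen (resTo irr_ind)
open Cfsg.Agent.Blocks.Local Cfsg.Agent.Blocks.Basic
open Cfsg.Agent.Blocks.Covering (conjIrr conjIrr_conjIrr conjIrr_one conjIrr_apply conjIrr_at_one)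

universe u v

/-- A sum of an invariant function over a 2-group action in characteristic 2. -/
theorem exists_fixed_ne {X : Type*} [Fintype X] {P : Type*} [Group P] [MulAction P X]
    (hP : IsPGroup 2 P) (s : X → X) (hs : ∀ x, s (s x) = x) (hcomm : ∀ (g : P) x, s (g • x) = g • s x)
    {K : Type*} [Field K] [CharP K 2] (F : X → K) (hF : ∀ (g : P) x, F (g • x) = F x)
    (hFs : ∀ x, F (s x) = F x) (hne : ∑ x, F x ≠ 0) :
    ∃ x, (∀ g : P, g • x = x) ∧ s x = x ∧ F x ≠ 0 := by
  classical
  by_contra hcon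
  push Not at hcon
  apply hne
  rw [← Finset.sum_fiberwise_of_maps_to (g := F) (t := Finset.univ.image F)
    (fun x _ => Finset.mem_image_of_mem _ (Finset.mem_univ x))]
  refine Finset.sum_eq_zero fun c _ => ?_
  have h1 : ∑ x ∈ Finset.univ.filter (fun x => F x = c), F x =
      ((Finset.univ.filter (fun x => F x = c)).card : K) * c := by
    rw [Finset.sum_congr rfl (fun x hx => (Finset.mem_filter.1 hx).2), Finset.sum_const,
      nsmul_eq_mul]
  rw [h1]
  by_cases hc : c = 0
  · rw [hc, mul_zero]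
  letI : MulAction P {x : X // F x = c} :=
    { smul := fun g x => ⟨g • x.1, by rw [hF]; exact x.2⟩
      one_smul := fun x => Subtype.ext (one_smul P x.1)
      mul_smul := fun a b x => Subtype.ext (mul_smul a b x.1) }
  have h2 : ¬ Odd (Nat.card {x : X // F x = c}) := by
    intro hodd
    obtain ⟨x, hx1, hx2⟩ := exists_fixed (X := {x : X // F x = c}) (P := P) hP
      (fun x => ⟨s x.1, by rw [hFs]; exact x.2⟩) (fun x => Subtype.ext (hs x.1))
      (fun g x => Subtype.ext (hcomm g x.1)) hodd
    have h3 := hcon x.1 (fun g => congrArg Subtype.val (hx1 g)) (congrArg Subtype.val hx2)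
    exact hc (x.2.symm.trans h3)
  rw [Nat.not_odd_iff_even, Nat.card_eq_fintype_card, Fintype.card_subtype, even_iff_two_dvd] at h2
  rw [(CharP.cast_eq_zero_iff K 2 _).2 h2, zero_mul]

variable {G : Type u} [Group G] [Fintype G] {M : Ideal AlgInt} {k : ℕ}

/-- A twist of both arguments. -/
theorem classInner_pw (hk : IsK G k) {π : G → ℂ} (hπ : ∀ g, π (g ^ k) = π g) (χ : IrrCharacter G) :
    classInner π (Twist.pw hk.coprime χ : G → ℂ) = classInner π (χ : G → ℂ) := by
  have h := Twist.classInner_pow hk.coprime π (χ : G → ℂ)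
  rw [← h]
  congr 1
  funext g
  exact (hπ g).symm

theorem classInner_conj_of_inv (S : Subgroup G) [S.Normal] [Fintype S] {F : S → ℂ} (d : G)
    (hF : ∀ s : S, F (MulAut.conjNormal d s) = F s) (φ : IrrCharacter S) :
    classInner F (conjIrr S d φ : S → ℂ) = classInner F (φ : S → ℂ) := by
  have h1 := Clifford.classInner_comp_mulEquiv (MulAut.conjNormal d : MulAut S) F (φ : S → ℂ)
  have h2 : (F ∘ (MulAut.conjNormal d : MulAut S)) = F := funext hF
  rw [h2] at h1
  rw [← h1]
  rfl

/-- A fixed constituent, with a coefficient nonzero modulo `M`, of a fixed class function, over a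
fixed character of a subgroup, with odd multiplicity. -/
theorem exists_odd_local (hM : IsPModular 2 M) (hk : IsK G k) (S : Subgroup G) [Fintype S]
    {φ : S → ℂ} (hφ : IsIrrCharacter S φ) (hφk : ∀ s : S, φ (s ^ k) = φ s) {Ψ : G → ℂ}
    (hcf : IsClassFunction G Ψ)
    (hint : ∀ χ : IrrCharacter G, MemLocalRing M (classInner Ψ (χ : G → ℂ)))
    (hΨk : ∀ g, Ψ (g ^ k) = Ψ g)
    (hne : ¬ MemLocalIdeal M (classInner (fun s : S => Ψ s) φ)) :
    ∃ χ : IrrCharacter G, (∀ g, (χ : G → ℂ) (g ^ k) = (χ : G → ℂ) g) ∧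
      ¬ MemLocalIdeal M (classInner Ψ (χ : G → ℂ)) ∧
      Odd (mu (fun s : S => (χ : G → ℂ) s) φ) := by
  classical
  have hprime : M.IsPrime := isPrime_of_isPModular hM
  haveI := charP_resField hM
  haveI := @Fintype.ofFinite (IrrCharacter G) finite_irr
  have h1 : (fun s : S => Ψ s) =
      ∑ χ : IrrCharacter G, classInner Ψ (χ : G → ℂ) • (fun s : S => (χ : G → ℂ) s) := by
    funext s
    have h2 := congrFun (classFunction_eq_sum hcf) (s : G)
    rw [h2, Finset.sum_apply, Finset.sum_apply]
    rfl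
  have hmu : ∀ χ : IrrCharacter G, classInner (fun s : S => (χ : G → ℂ) s) φ =
      (mu (fun s : S => (χ : G → ℂ) s) φ : ℂ) := fun χ =>
    irr_mu_spec (isCharacter_comp S.subtype (isIrr_isCharacter χ.2)) hφ
  have h2 : classInner (fun s : S => Ψ s) φ = ∑ χ : IrrCharacter G,
      classInner Ψ (χ : G → ℂ) * (mu (fun s : S => (χ : G → ℂ) s) φ : ℂ) := by
    rw [h1, classInner_sum_left]
    refine Finset.sum_congr rfl fun χ _ => ?_
    rw [classInner_smul_left, hmu]
  have hmem : ∀ χ : IrrCharacter G, MemLocalRing M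
      (classInner Ψ (χ : G → ℂ) * (mu (fun s : S => (χ : G → ℂ) s) φ : ℂ)) := fun χ =>
    memLocalRing_mul (hint χ) (memLocalRing_intCast _)
  have h3 : ∑ χ : IrrCharacter G, redC M
      (classInner Ψ (χ : G → ℂ) * (mu (fun s : S => (χ : G → ℂ) s) φ : ℂ)) ≠ 0 := by
    rw [← redC_sum (fun χ _ => hmem χ), ← h2]
    intro h
    apply hne
    exact (redC_eq_zero_iff (by
      rw [h2]
      exact memLocalRing_sum fun χ _ => hmem χ)).1 h
  letI : MulAction Unit (IrrCharacter G) :=
    { smul := fun _ χ => χ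
      one_smul := fun _ => rfl
      mul_smul := fun _ _ _ => rfl }
  obtain ⟨χ, -, hχ1, hχ2⟩ := exists_fixed_ne (P := Unit) (X := IrrCharacter G)
    (fun _ => ⟨0, Subsingleton.elim _ _⟩) (Twist.pw hk.coprime) (pw_pw hk) (fun _ _ => rfl) _
    (fun _ _ => rfl) (by
      intro χ
      congr 1
      rw [classInner_pw hk hΨk]
      congr 2
      have h4 := classInner_pw (hk.sub S) (π := fun s : S => (χ : G → ℂ) s)
      have h5 := Twist.classInner_pow (Twist.coprime_subgroup hk.coprime S)
        (fun x : S => (χ : G → ℂ) x) φ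
      rw [mu, mu]
      congr 2
      have h6 : (fun x : S => (Twist.pw hk.coprime χ : G → ℂ) x) =
          fun x : S => (fun x : S => (χ : G → ℂ) x) (x ^ k) := by
        funext x
        rw [Twist.pw_apply]
        rfl
      have h7 : (fun g : S => φ (g ^ k)) = φ := funext hφk
      rw [h6]
      rw [h7] at h5
      exact h5) h3
  refine ⟨χ, (Twist.fixed_iff hk.coprime χ).1 hχ1, ?_, ?_⟩
  · intro h
    apply hχ2
    rw [redC_mul (hint χ) (memLocalRing_intCast _), (redC_eq_zero_iff (hint χ)).2 h, zero_mul]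
  · rw [← Int.not_even_iff_odd, even_iff_two_dvd]
    intro h
    apply hχ2
    rw [redC_mul (hint χ) (memLocalRing_intCast _), redC_intCast,
      (CharP.intCast_eq_zero_iff (ResField M) 2 _).2 (by exact_mod_cast h), mul_zero]

/-- A character of `S` fixed by a Sylow 2-subgroup is fixed by `G`. -/
theorem conjIrr_of_sylow (S : Subgroup G) [hS : S.Normal] (hidx : ∃ j : ℕ, S.index = 2 ^ j)
    [Fact (Nat.Prime 2)] (P : Sylow 2 G) {φ : IrrCharacter S}
    (hP : ∀ d ∈ (P : Subgroup G), conjIrr S d φ = φ) (d : G) : conjIrr S d φ = φ := by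
  have htop : (P : Subgroup G) ⊔ S = ⊤ := by
    rw [← Subgroup.index_eq_one]
    obtain ⟨j, hj⟩ := hidx
    have h1 : ((P : Subgroup G) ⊔ S).index ∣ 2 ^ j := by
      rw [← hj]
      exact Subgroup.index_dvd_of_le le_sup_right
    have h2 : ((P : Subgroup G) ⊔ S).index ∣ (P : Subgroup G).index :=
      Subgroup.index_dvd_of_le le_sup_left
    have h3 : ¬ 2 ∣ (P : Subgroup G).index := P.not_dvd_index
    have h4 : Nat.Coprime (2 ^ j) (P : Subgroup G).index :=
      Nat.Coprime.pow_left _ ((Nat.Prime.coprime_iff_not_dvd Nat.prime_two).2 h3)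
    exact Nat.eq_one_of_dvd_coprimes h4 h1 h2
  have h1 : d ∈ (P : Subgroup G) ⊔ S := by
    rw [htop]
    exact Subgroup.mem_top _
  obtain ⟨x, hx, s, hs, rfl⟩ := Subgroup.mem_sup_of_normal_right.1 h1
  rw [← conjIrr_conjIrr S s x, hP x hx, conjIrr_mem_self S hs]

/-- The action of a subgroup on the characters of a normal subgroup. -/
@[reducible] noncomputable def irrAct (S : Subgroup G) [S.Normal] (P : Subgroup G) :
    MulAction P (IrrCharacter S) where
  smul d φ := conjIrr S ((d⁻¹ : P) : G) φ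
  one_smul φ := by
    show conjIrr S (((1 : P)⁻¹ : P) : G) φ = φ
    rw [inv_one]
    exact conjIrr_one S φ
  mul_smul a b φ := by
    show conjIrr S (((a * b)⁻¹ : P) : G) φ =
      conjIrr S ((a⁻¹ : P) : G) (conjIrr S ((b⁻¹ : P) : G) φ)
    rw [conjIrr_conjIrr, mul_inv_rev]
    rfl

/-- **The conclusion from local coefficients.** -/
theorem of_local (hM : IsPModular 2 M) (S : Subgroup G) [hS : S.Normal] [Fintype S]
    [Fintype (IrrCharacter S)]
    (hidx : ∃ j : ℕ, S.index = 2 ^ j) (hk : IsK G k) {Ψ : G → ℂ} (hcf : IsClassFunction G Ψ)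
    (hint : ∀ χ : IrrCharacter G, MemLocalRing M (classInner Ψ (χ : G → ℂ)))
    (hΨk : ∀ g, Ψ (g ^ k) = Ψ g)
    (hne : ¬ MemLocalIdeal M (∑ φ : IrrCharacter S,
      @ite _ (φ ∈ principalBlock M S ∧ Even (charDegree (φ : S → ℂ))) (Classical.dec _)
        (classInner (fun s : S => Ψ s) (φ : S → ℂ)) 0)) : Concl M G S k := by
  classical
  have hprime : M.IsPrime := isPrime_of_isPModular hM
  haveI := charP_resField hM
  haveI : Fact (Nat.Prime 2) := ⟨Nat.prime_two⟩
  haveI := @Fintype.ofFinite (IrrCharacter G) finite_irr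
  have hcomp : (fun s : S => Ψ s) =
      ∑ χ : IrrCharacter G, classInner Ψ (χ : G → ℂ) • (fun s : S => (χ : G → ℂ) s) := by
    funext s
    have h2 := congrFun (classFunction_eq_sum hcf) (s : G)
    rw [h2, Finset.sum_apply, Finset.sum_apply]
    rfl
  -- the coefficients of the restriction are local
  have hres : ∀ φ : IrrCharacter S, MemLocalRing M (classInner (fun s : S => Ψ s) (φ : S → ℂ)) := by
    intro φ
    rw [hcomp, classInner_sum_left]
    refine memLocalRing_sum fun χ _ => ?_
    rw [classInner_smul_left]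
    obtain ⟨n, hn⟩ := classInner_isNat
      (isCharacter_comp S.subtype (isIrr_isCharacter χ.2)) (isIrr_isCharacter φ.2)
    have hn' : classInner (fun s : S => (χ : G → ℂ) s) (φ : S → ℂ) = n := hn
    rw [hn']
    exact memLocalRing_mul (hint χ) (memLocalRing_natCast _)
  have hmemite : ∀ φ : IrrCharacter S, MemLocalRing M
      (@ite _ (φ ∈ principalBlock M S ∧ Even (charDegree (φ : S → ℂ))) (Classical.dec _)
        (classInner (fun s : S => Ψ s) (φ : S → ℂ)) 0) := by
    intro φ
    split_ifs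
    · exact hres φ
    · exact memLocalRing_zero
  set F : IrrCharacter S → ResField M := fun φ => redC M
    (@ite _ (φ ∈ principalBlock M S ∧ Even (charDegree (φ : S → ℂ))) (Classical.dec _)
        (classInner (fun s : S => Ψ s) (φ : S → ℂ)) 0) with hF
  have h1 : ∑ φ, F φ ≠ 0 := by
    intro h2
    apply hne
    refine (redC_eq_zero_iff (memLocalRing_sum fun φ _ => hmemite φ)).1 ?_
    rw [redC_sum (fun φ _ => hmemite φ), ← h2]
  have hFcongr : ∀ φ ψ : IrrCharacter S,
      ((ψ ∈ principalBlock M S ∧ Even (charDegree (ψ : S → ℂ))) ↔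
        (φ ∈ principalBlock M S ∧ Even (charDegree (φ : S → ℂ)))) →
      classInner (fun s : S => Ψ s) (ψ : S → ℂ) = classInner (fun s : S => Ψ s) (φ : S → ℂ) →
      F ψ = F φ := by
    intro φ ψ h2 h3
    show redC M _ = redC M _
    rw [h3]
    congr 1
    by_cases h4 : φ ∈ principalBlock M S ∧ Even (charDegree (φ : S → ℂ))
    · rw [if_pos h4, if_pos (h2.2 h4)]
    · rw [if_neg h4, if_neg (fun h => h4 (h2.1 h))]
  obtain ⟨P⟩ : Nonempty (Sylow 2 G) := inferInstance
  letI := irrAct S (P : Subgroup G)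
  obtain ⟨φ, hφ1, hφ2, hφ3⟩ := exists_fixed_ne (X := IrrCharacter S) (P := (P : Subgroup G))
    P.isPGroup' (Twist.pw (hk.sub S).coprime) (pw_pw (hk.sub S))
    (fun g φ => (conjIrr_pw S hk _ φ).symm) F
    (by
      intro g φ
      show F (conjIrr S ((g⁻¹ : (P : Subgroup G)) : G) φ) = F φ
      refine hFcongr _ _ ⟨fun h => ?_, fun h => ?_⟩ ?_
      · refine ⟨?_, ?_⟩
        · have h2 := conjIrr_mem S ((g : (P : Subgroup G)) : G) h.1
          rw [conjIrr_conjIrr, ← Subgroup.coe_mul, inv_mul_cancel, Subgroup.coe_one,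
            conjIrr_one] at h2
          exact h2
        · rw [← charDegree_conjIrr S ((g⁻¹ : (P : Subgroup G)) : G)]
          exact h.2
      · exact ⟨conjIrr_mem S _ h.1, by rw [charDegree_conjIrr]; exact h.2⟩
      · exact classInner_conj_of_inv S _ (fun s => hcf (s : G) _) φ)
    (by
      intro φ
      refine hFcongr _ _ ⟨fun h => ?_, fun h => ?_⟩ ?_
      · refine ⟨?_, ?_⟩
        · have h2 := pw_mem (hk.sub S) h.1
          rwa [pw_pw (hk.sub S)] at h2
        · rw [← charDegree_pw (hk.sub S)]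
          exact h.2
      · exact ⟨pw_mem (hk.sub S) h.1, by rw [charDegree_pw (hk.sub S)]; exact h.2⟩
      · exact classInner_pw (hk.sub S) (fun s => by
          show Ψ ((s ^ k : S) : G) = Ψ s
          rw [Subgroup.coe_pow, hΨk]) φ) h1
  -- `φ`
  have hin : φ ∈ principalBlock M S ∧ Even (charDegree (φ : S → ℂ)) := by
    by_contra h
    apply hφ3
    show redC M _ = 0
    rw [if_neg h, redC_zero]
  have hcoef : ¬ MemLocalIdeal M (classInner (fun s : S => Ψ s) (φ : S → ℂ)) := by
    intro h
    apply hφ3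
    show redC M _ = 0
    rw [if_pos hin]
    exact (redC_eq_zero_iff (hres φ)).2 h
  have hφG : ∀ d : G, conjIrr S d φ = φ := by
    refine conjIrr_of_sylow S hidx P fun d hd => ?_
    have h2 : conjIrr S (((⟨d, hd⟩ : (P : Subgroup G))⁻¹⁻¹ : (P : Subgroup G)) : G) φ = φ :=
      hφ1 (⟨d, hd⟩ : (P : Subgroup G))⁻¹
    rwa [inv_inv] at h2
  have hφk := (Twist.fixed_iff (hk.sub S).coprime φ).1 hφ2
  obtain ⟨χ, hχk, -, hχodd⟩ := exists_odd_local hM hk S φ.2 hφk hcf hint hΨk hcoef
  haveI : Fintype (⊤ : Subgroup G) := Fintype.ofFinite _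
  have hk1 : (φ : S → ℂ) ≠ fun _ => 1 := by
    intro h1
    have h2 := hin.2
    rw [charDegree_def, h1] at h2
    simp at h2
  exact of_inertia hM S hidx hk φ hin.1 hφk hk1 ⊤
    (fun g => ⟨fun _ => congrArg Subtype.val (hφG g), fun _ => Subgroup.mem_top g⟩)
    le_top (π := fun t : (⊤ : Subgroup G) => (χ : G → ℂ) t)
    ((GC.of_irr χ.2).comp (Subgroup.subtype ⊤))
    (fun t => by
      show (χ : G → ℂ) ((t ^ k : (⊤ : Subgroup G)) : G) = (χ : G → ℂ) t
      rw [Subgroup.coe_pow, hχk]) hχodd (Or.inl hin.2)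

/-- **The form with norms.** -/
theorem of_local_norm (hM : IsPModular 2 M) (S : Subgroup G) [hS : S.Normal] [Fintype S]
    [Fintype (IrrCharacter S)]
    (hidx : ∃ j : ℕ, S.index = 2 ^ j) (hk : IsK G k) {Ψ : G → ℂ} (hcf : IsClassFunction G Ψ)
    (hint : ∀ χ : IrrCharacter G, MemLocalRing M (classInner Ψ (χ : G → ℂ)))
    (hΨk : ∀ g, Ψ (g ^ k) = Ψ g)
    (hne : ¬ MemLocalIdeal M ((∑ φ : IrrCharacter S,
      @ite _ (φ ∈ principalBlock M S) (Classical.dec _)
        (classInner (fun s : S => Ψ s) (φ : S → ℂ) ^ 2) 0) -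
      (∑ φ : IrrCharacter S, @ite _ (φ ∈ principalBlock M S) (Classical.dec _)
        (classInner (fun s : S => Ψ s) (φ : S → ℂ) * (φ : S → ℂ) 1) 0) ^ 2)) : Concl M G S k := by
  classical
  have hprime : M.IsPrime := isPrime_of_isPModular hM
  haveI := charP_resField hM
  haveI : Fact (Nat.Prime 2) := ⟨Nat.prime_two⟩
  haveI := @Fintype.ofFinite (IrrCharacter G) finite_irr
  have hcomp : (fun s : S => Ψ s) =
      ∑ χ : IrrCharacter G, classInner Ψ (χ : G → ℂ) • (fun s : S => (χ : G → ℂ) s) := by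
    funext s
    have h2 := congrFun (classFunction_eq_sum hcf) (s : G)
    rw [h2, Finset.sum_apply, Finset.sum_apply]
    rfl
  have hres : ∀ φ : IrrCharacter S, MemLocalRing M (classInner (fun s : S => Ψ s) (φ : S → ℂ)) := by
    intro φ
    rw [hcomp, classInner_sum_left]
    refine memLocalRing_sum fun χ _ => ?_
    rw [classInner_smul_left]
    obtain ⟨n, hn⟩ := classInner_isNat
      (isCharacter_comp S.subtype (isIrr_isCharacter χ.2)) (isIrr_isCharacter φ.2)
    have hn' : classInner (fun s : S => (χ : G → ℂ) s) (φ : S → ℂ) = n := hn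
    rw [hn']
    exact memLocalRing_mul (hint χ) (memLocalRing_natCast _)
  refine of_local hM S hidx hk hcf hint hΨk fun hmem => hne ?_
  -- everything modulo `M`
  set a : IrrCharacter S → ResField M := fun φ =>
    redC M (classInner (fun s : S => Ψ s) (φ : S → ℂ)) with ha
  have hm1 : ∀ φ : IrrCharacter S, MemLocalRing M
      (@ite _ (φ ∈ principalBlock M S ∧ Even (charDegree (φ : S → ℂ))) (Classical.dec _)
        (classInner (fun s : S => Ψ s) (φ : S → ℂ)) 0) := by
    intro φ
    split_ifs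
    · exact hres φ
    · exact memLocalRing_zero
  have hm2 : ∀ φ : IrrCharacter S, MemLocalRing M (@ite _ (φ ∈ principalBlock M S)
      (Classical.dec _) (classInner (fun s : S => Ψ s) (φ : S → ℂ) ^ 2) 0) := by
    intro φ
    split_ifs
    · exact memLocalRing_pow (hres φ) 2
    · exact memLocalRing_zero
  have hm3 : ∀ φ : IrrCharacter S, MemLocalRing M (@ite _ (φ ∈ principalBlock M S)
      (Classical.dec _) (classInner (fun s : S => Ψ s) (φ : S → ℂ) * (φ : S → ℂ) 1) 0) := by
    intro φ
    split_ifs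
    · refine memLocalRing_mul (hres φ) ?_
      rw [irr_one_eq_charDegree φ.2]
      exact memLocalRing_natCast _
    · exact memLocalRing_zero
  have h1 := (redC_eq_zero_iff (memLocalRing_sum fun φ _ => hm1 φ)).2 hmem
  rw [redC_sum fun φ _ => hm1 φ] at h1
  have hs2 := memLocalRing_sum (M := M) (s := Finset.univ) fun φ _ => hm2 φ
  have hs3 := memLocalRing_sum (M := M) (s := Finset.univ) fun φ _ => hm3 φ
  refine (redC_eq_zero_iff (memLocalRing_sub hs2 (memLocalRing_pow hs3 2))).1 ?_
  rw [redC_sub hs2 (memLocalRing_pow hs3 2), redC_pow hs3, redC_sum (fun φ _ => hm2 φ),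
    redC_sum (fun φ _ => hm3 φ)]
  have e1 : ∀ φ : IrrCharacter S, redC M (@ite _ (φ ∈ principalBlock M S)
      (Classical.dec _) (classInner (fun s : S => Ψ s) (φ : S → ℂ) ^ 2) 0) =
      (if φ ∈ principalBlock M S then a φ else 0) ^ 2 := by
    intro φ
    by_cases h : φ ∈ principalBlock M S
    · rw [if_pos h, if_pos h, redC_pow (hres φ)]
    · rw [if_neg h, if_neg h, redC_zero]
      simp
  have e2 : ∀ φ : IrrCharacter S, redC M (@ite _ (φ ∈ principalBlock M S)
      (Classical.dec _) (classInner (fun s : S => Ψ s) (φ : S → ℂ) * (φ : S → ℂ) 1) 0) =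
      (if φ ∈ principalBlock M S then a φ else 0) * (charDegree (φ : S → ℂ) : ResField M) := by
    intro φ
    by_cases h : φ ∈ principalBlock M S
    · rw [if_pos h, if_pos h, irr_one_eq_charDegree φ.2, redC_mul (hres φ) (memLocalRing_natCast _),
        redC_natCast]
    · rw [if_neg h, if_neg h, redC_zero, zero_mul]
  have e3 : ∀ φ : IrrCharacter S, redC M
      (@ite _ (φ ∈ principalBlock M S ∧ Even (charDegree (φ : S → ℂ))) (Classical.dec _)
        (classInner (fun s : S => Ψ s) (φ : S → ℂ)) 0) =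
      (if φ ∈ principalBlock M S then a φ else 0) -
      (if φ ∈ principalBlock M S then a φ else 0) * (charDegree (φ : S → ℂ) : ResField M) := by
    intro φ
    by_cases h : φ ∈ principalBlock M S
    · rcases Nat.even_or_odd (charDegree (φ : S → ℂ)) with h5 | h5
      · rw [if_pos ⟨h, h5⟩, if_pos h,
          (CharP.cast_eq_zero_iff (ResField M) 2 _).2 (even_iff_two_dvd.1 h5), mul_zero, sub_zero]
      · rw [if_neg (fun h6 => (Nat.not_even_iff_odd.2 h5) h6.2), if_pos h, redC_zero]
        obtain ⟨m, hm⟩ := h5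
        rw [hm]
        push_cast
        rw [CharTwo.two_eq_zero, zero_mul, zero_add, mul_one, sub_self]
    · rw [if_neg h, if_neg (fun h6 => h h6.1), redC_zero, zero_mul, sub_zero]
  rw [Finset.sum_congr rfl fun φ _ => e3 φ, Finset.sum_sub_distrib, sub_eq_zero] at h1
  rw [Finset.sum_congr rfl fun φ _ => e1 φ, Finset.sum_congr rfl fun φ _ => e2 φ, ← h1,
    sub_eq_zero]
  exact (sum_pow_char 2 _ _).symm

end Cfsg.Agent.H610.EB
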