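import Cfsg.Agent.H610.EB.DRed
import Cfsg.Agent.S0886
import Cfsg.Agent.CharactersDeep.CosetAverage

/-!
# Reduction to cyclic extensions

* `res_indFun`: Mackey's formula `(Ind_P^H η)_S = Ind_{P ∩ S}^S η` for `H = S P`, `S` normal.
* `OddExt H N k φ`: a power-fixed generalized character of `H` with odd multiplicity over `φ`.
* `fixed_of_ext`: if `H / N` is cyclic of 2-power order, `φ` invariant and `OddExt H N k φ`, all the
  irreducible characters of `H` over `φ` are power-fixed.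
* `of_cyc`: the conclusion of S4522 if `OddExt` holds for the groups `S⟨g⟩`, `g` in the inertia
  group.
* `OddExt.of_norm`: the norm of the restriction to a Sylow 2-subgroup is odd.
-/

set_option autoImplicit false
set_option linter.unusedSectionVars false
set_option linter.style.haveILetI false

namespace Cfsg.Agent.H610.EB

open Cfsg Cfsg.Agent.Characters Cfsg.Agent.H694
open scoped ComplexConjugate
open Cfsg.Agent.Characters.Core
open Cfsg.Agent.OddOrderCharacters.NormalInduced (conjFn)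
open Cfsg.Agent.OddOrderCharacters.PF9.CliffGen (resTo irr_ind)
open Cfsg.Agent.Blocks.Local Cfsg.Agent.Blocks.Basic
open Cfsg.Agent.Blocks.Covering (conjIrr conjIrr_conjIrr conjIrr_one conjIrr_apply conjIrr_at_one)

universe u v

/-! ### Mackey -/

section Mackey

variable {H : Type u} [Group H] [Fintype H] (S : Subgroup H) [hS : S.Normal] [Fintype S]
  (P : Subgroup H) [Fintype P]

theorem card_fibre (h : S ⊔ P = ⊤) (x : H) :
    Nat.card {p : P // x * (p : H)⁻¹ ∈ S} = Nat.card (P.subgroupOf S) := by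
  have hx : x ∈ S ⊔ P := by
    rw [h]
    exact Subgroup.mem_top x
  obtain ⟨s, hs, p₀, hp₀, rfl⟩ := Subgroup.mem_sup_of_normal_left.1 hx
  refine Nat.card_congr
    { toFun := fun p => ⟨⟨(p.1 : H) * p₀⁻¹, ?_⟩, ?_⟩
      invFun := fun t => ⟨⟨((t : S) : H) * p₀, ?_⟩, ?_⟩
      left_inv := fun p => ?_
      right_inv := fun t => ?_ }
  · have h1 := p.2
    have h2 : s⁻¹ * (s * p₀ * (p.1 : H)⁻¹) ∈ S := S.mul_mem (S.inv_mem hs) h1
    have h3 : s⁻¹ * (s * p₀ * (p.1 : H)⁻¹) = ((p.1 : H) * p₀⁻¹)⁻¹ := by group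
    rw [h3] at h2
    exact S.inv_mem_iff.1 h2
  · rw [Subgroup.mem_subgroupOf]
    exact P.mul_mem p.1.2 (P.inv_mem hp₀)
  · exact P.mul_mem (Subgroup.mem_subgroupOf.1 t.2) hp₀
  · show s * p₀ * (((t : S) : H) * p₀)⁻¹ ∈ S
    have h3 : s * p₀ * (((t : S) : H) * p₀)⁻¹ = s * ((t : S) : H)⁻¹ := by group
    rw [h3]
    exact S.mul_mem hs (S.inv_mem (t : S).2)
  · apply Subtype.ext
    apply Subtype.ext
    show (p.1 : H) * p₀⁻¹ * p₀ = p.1
    group
  · apply Subtype.ext
    apply Subtype.ext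
    show ((t : S) : H) * p₀ * p₀⁻¹ = t
    group

/-- **Mackey's formula** for a normal subgroup and a supplement. -/
theorem res_indFun (h : S ⊔ P = ⊤) {η : P → ℂ} (hη : IsClassFunction P η) :
    (fun s : S => indFun P η (s : H)) =
      indFun (P.subgroupOf S) (fun x : P.subgroupOf S => η ⟨((x : S) : H), Subgroup.mem_subgroupOf.1 x.2⟩) := by
  classical
  funext s
  set F : H → ℂ := fun x => extendByZero P η (x⁻¹ * s * x) with hF
  have hFP : ∀ (y : H) (p : P), F (y * p) = F y := by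
    intro y p
    show extendByZero P η ((y * p)⁻¹ * s * (y * p)) = extendByZero P η (y⁻¹ * s * y)
    have h1 : (y * p)⁻¹ * s * (y * p) = (p : H)⁻¹ * (y⁻¹ * s * y) * p := by group
    rw [h1]
    set z := y⁻¹ * s * y with hz
    by_cases hzP : z ∈ P
    · have hzp : (p : H)⁻¹ * z * p ∈ P := P.mul_mem (P.mul_mem (P.inv_mem p.2) hzP) p.2
      have e1 : extendByZero P η z = η ⟨z, hzP⟩ :=
        Function.Injective.extend_apply Subtype.val_injective η 0 (⟨z, hzP⟩ : P)
      have e2 : extendByZero P η ((p : H)⁻¹ * z * p) = η ⟨(p : H)⁻¹ * z * p, hzp⟩ :=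
        Function.Injective.extend_apply Subtype.val_injective η 0 (⟨(p : H)⁻¹ * z * p, hzp⟩ : P)
      rw [e1, e2, ← hη ⟨z, hzP⟩ p⁻¹]
      congr 1
      apply Subtype.ext
      simp
    · have hzp : (p : H)⁻¹ * z * p ∉ P := by
        intro h2
        apply hzP
        have h3 := P.mul_mem (P.mul_mem p.2 h2) (P.inv_mem p.2)
        have h4 : (p : H) * ((p : H)⁻¹ * z * p) * (p : H)⁻¹ = z := by group
        rwa [h4] at h3
      have e1 : extendByZero P η z = 0 := by
        rw [extendByZero, Function.extend_apply' _ _ _ (by rintro ⟨t, ht⟩; exact hzP (ht ▸ t.2))]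
        rfl
      have e2 : extendByZero P η ((p : H)⁻¹ * z * p) = 0 := by
        rw [extendByZero, Function.extend_apply' _ _ _ (by rintro ⟨t, ht⟩; exact hzp (ht ▸ t.2))]
        rfl
      rw [e1, e2]
  -- the double count
  have h1 : ∑ y : S, ∑ p : P, F ((y : H) * p) = (Nat.card P : ℂ) * ∑ y : S, F y := by
    rw [Finset.mul_sum]
    refine Finset.sum_congr rfl fun y _ => ?_
    rw [Finset.sum_congr rfl fun p _ => hFP y p, Finset.sum_const, Finset.card_univ,
      nsmul_eq_mul, Nat.card_eq_fintype_card]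
  have h2 : ∑ y : S, ∑ p : P, F ((y : H) * p) =
      (Nat.card (P.subgroupOf S) : ℂ) * ∑ x : H, F x := by
    rw [Finset.sum_comm, Finset.mul_sum]
    have h3 : ∀ p : P, ∑ y : S, F ((y : H) * p) = ∑ x : H, if x * (p : H)⁻¹ ∈ S then F x else 0 := by
      intro p
      rw [← Finset.sum_filter]
      refine Finset.sum_bij' (fun y _ => (y : H) * p)
        (fun x hx => ⟨x * (p : H)⁻¹, (Finset.mem_filter.1 hx).2⟩) ?_ ?_ ?_ ?_ ?_
      · intro y _
        rw [Finset.mem_filter]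
        refine ⟨Finset.mem_univ _, ?_⟩
        rw [mul_inv_cancel_right]
        exact y.2
      · intro x _
        exact Finset.mem_univ _
      · intro y _
        apply Subtype.ext
        show (y : H) * p * (p : H)⁻¹ = y
        group
      · intro x _
        show x * (p : H)⁻¹ * p = x
        group
      · intro y _
        rfl
    rw [Finset.sum_congr rfl fun p _ => h3 p, Finset.sum_comm]
    refine Finset.sum_congr rfl fun x _ => ?_
    rw [← card_fibre S P h x, Nat.card_eq_fintype_card, Fintype.card_subtype, ← Finset.sum_filter,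
      Finset.sum_const, nsmul_eq_mul]
  have h4 : indFun P η (s : H) = (Nat.card P : ℂ)⁻¹ * ∑ x : H, F x := rfl
  have h5 : ∀ y : S, extendByZero (P.subgroupOf S) (fun x : P.subgroupOf S =>
      η ⟨((x : S) : H), Subgroup.mem_subgroupOf.1 x.2⟩) (y⁻¹ * s * y) = F y := by
    intro y
    show _ = extendByZero P η (((y⁻¹ * s * y : S)) : H)
    set z : S := y⁻¹ * s * y with hz
    by_cases hzP : z ∈ P.subgroupOf S
    · have e1 : extendByZero P η (z : H) = η ⟨z, Subgroup.mem_subgroupOf.1 hzP⟩ :=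
        Function.Injective.extend_apply Subtype.val_injective η 0
          (⟨z, Subgroup.mem_subgroupOf.1 hzP⟩ : P)
      rw [e1]
      exact Function.Injective.extend_apply Subtype.val_injective (fun x : P.subgroupOf S =>
        η ⟨((x : S) : H), Subgroup.mem_subgroupOf.1 x.2⟩) (0 : S → ℂ) (⟨z, hzP⟩ : P.subgroupOf S)
    · have hzP' : (z : H) ∉ P := fun h6 => hzP (Subgroup.mem_subgroupOf.2 h6)
      have e1 : extendByZero P η (z : H) = 0 := by
        rw [extendByZero, Function.extend_apply' _ _ _ (by rintro ⟨t, ht⟩; exact hzP' (ht ▸ t.2))]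
        rfl
      rw [e1, extendByZero, Function.extend_apply' _ _ _ (by rintro ⟨t, ht⟩; exact hzP (ht ▸ t.2))]
      rfl
  have h6 : indFun (P.subgroupOf S) (fun x : P.subgroupOf S =>
      η ⟨((x : S) : H), Subgroup.mem_subgroupOf.1 x.2⟩) s =
      (Nat.card (P.subgroupOf S) : ℂ)⁻¹ * ∑ y : S, F y := by
    show (Nat.card (P.subgroupOf S) : ℂ)⁻¹ * _ = _
    congr 1
    exact Finset.sum_congr rfl fun y _ => h5 y
  show indFun P η (s : H) = _
  rw [h4, h6]
  have hP0 : (Nat.card P : ℂ) ≠ 0 := card_ne_zero_complex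
  have hP1 : (Nat.card (P.subgroupOf S) : ℂ) ≠ 0 := card_ne_zero_complex
  rw [h1] at h2
  field_simp
  linear_combination -h2

end Mackey

/-! ### Odd extensions -/

/-- A power-fixed generalized character of `H` with odd multiplicity over `φ`. -/
def OddExt (H : Type u) [Group H] [Fintype H] (N : Subgroup H) [Fintype N] (k : ℕ) (φ : N → ℂ) :
    Prop :=
  ∃ π : H → ℂ, GC π ∧ (∀ t : H, π (t ^ k) = π t) ∧ Odd (mu (fun n : N => π n) φ)

/-- `g ^ k` and `g` are in the same coset of a normal subgroup of 2-power index. -/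
theorem pow_mul_inv_mem {H : Type u} [Group H] [Finite H] {k : ℕ} (hk : IsK H k) (N : Subgroup H)
    [N.Normal] (hidx : ∃ j : ℕ, N.index = 2 ^ j) (g : H) : g ^ k * g⁻¹ ∈ N := by
  obtain ⟨j, hj⟩ := hidx
  haveI : Finite (H ⧸ N) := Nat.finite_of_card_ne_zero (by
    show N.index ≠ 0
    rw [hj]
    positivity)
  have h1 : orderOf (QuotientGroup.mk g : H ⧸ N) ∣ 2 ^ j := by
    rw [← hj]
    exact orderOf_dvd_natCard _
  obtain ⟨i, -, hi⟩ := (Nat.dvd_prime_pow Nat.prime_two).1 h1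
  have h2 : orderOf (QuotientGroup.mk g : H ⧸ N) ∣ orderOf g := orderOf_map_dvd (QuotientGroup.mk' N) g
  rw [hi] at h2
  obtain ⟨m, hm⟩ := h2
  have hpos := orderOf_pos g
  have hm0 : m ≠ 0 := by
    rintro rfl
    rw [mul_zero] at hm
    omega
  have h3 : orderOf (g ^ m) = 2 ^ i := by
    rw [orderOf_pow_of_dvd hm0 ⟨2 ^ i, by rw [hm]; ring⟩, hm, Nat.mul_div_cancel _ (Nat.pos_of_ne_zero hm0)]
  have h4 := hk.two (g ^ m) ⟨i, h3⟩
  have h5 : ((2 ^ i : ℕ) : ℤ) ∣ (k : ℤ) - 1 := by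
    rw [← h3, orderOf_dvd_iff_zpow_eq_one, zpow_sub, zpow_natCast, h4, zpow_one, mul_inv_cancel]
  rw [← hi, orderOf_dvd_iff_zpow_eq_one, zpow_sub, zpow_natCast, zpow_one] at h5
  rw [← QuotientGroup.eq_one_iff]
  exact h5

/-- **All characters over `φ` are fixed in a cyclic extension.** -/
theorem fixed_of_ext {H : Type u} [Group H] [Fintype H] (N : Subgroup H) [hN : N.Normal]
    [Fintype N] (hcyc : IsCyclic (H ⧸ N)) (hidx : ∃ j : ℕ, N.index = 2 ^ j) {k : ℕ} (hk : IsK H k)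
    {φ : N → ℂ} (hφ : IsIrrCharacter N φ) (hinv : ∀ g, conjFn N φ g = φ)
    (hφk : ∀ s : N, φ (s ^ k) = φ s) (hext : OddExt H N k φ) {θ : H → ℂ} (hθ : IsIrrCharacter H θ)
    (hover : classInner (fun n : N => θ n) φ ≠ 0) (g : H) : θ (g ^ k) = θ g := by
  classical
  obtain ⟨π, hπ, hπk, hodd⟩ := hext
  obtain ⟨ψ, hψk, hψodd⟩ := exists_odd hk N hφ hφk hπ hπk hodd
  obtain ⟨χ₀, hχ₀, hχφ⟩ := Cfsg.Agent.S0886.result N hcyc φ hφ (fun g n => congrFun (hinv g) n)
  have hχ₀N : (fun n : N => χ₀ n) = φ := funext hχφ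
  have hψ0 : classInner (fun n : N => (ψ : H → ℂ) n) φ ≠ 0 := by
    have h1 : classInner (fun n : N => (ψ : H → ℂ) n) φ =
        (mu (fun n : N => (ψ : H → ℂ) n) φ : ℂ) :=
      irr_mu_spec (isCharacter_comp N.subtype (isIrr_isCharacter ψ.2)) hφ
    rw [h1]
    intro h2
    have h3 : mu (fun n : N => (ψ : H → ℂ) n) φ = 0 := by exact_mod_cast h2
    rw [h3] at hψodd
    exact absurd hψodd (by decide)
  -- `ψ` extends `φ`
  obtain ⟨η, hη, hηN, hψη⟩ := Cfsg.Agent.CharactersDeep.CosetAverage.exists_irr_mul N χ₀ hχ₀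
    (by rw [hχ₀N]; exact hφ) (ψ : H → ℂ) ψ.2 (by rw [hχ₀N]; exact hψ0)
  have hη1 : η 1 = 1 := by
    obtain ⟨f, hf⟩ := Cfsg.Agent.OddOrderCharacters.PF9.CliffGen.exists_hom_of_ker hη (by
      intro y hy
      have h1 : y ∈ N := by
        have hab : ∀ a b : H ⧸ N, a * b = b * a := fun a b => hcyc.commGroup.mul_comm a b
        have h2 : commutator H ≤ N := by
          rw [commutator_def, Subgroup.commutator_le]
          intro a _ b _
          rw [← QuotientGroup.eq_one_iff]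
          have h3 := hab (QuotientGroup.mk a) (QuotientGroup.mk b)
          rw [commutatorElement_def]
          show ((a : H ⧸ N) * b * (a : H ⧸ N)⁻¹ * (b : H ⧸ N)⁻¹) = 1
          rw [h3]
          group
        exact h2 hy
      have h2 := hηN ⟨y, h1⟩ 1
      rw [mul_one] at h2
      exact h2)
    rw [hf]
    simp
  have hψN : (fun n : N => (ψ : H → ℂ) n) = φ := by
    funext n
    have h1 := congrFun hψη (n : H)
    have h2 := hηN n 1
    rw [mul_one] at h2
    rw [h1, Pi.mul_apply, h2, hη1, mul_one, hχφ]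
  -- `θ = ψ η'`
  obtain ⟨η', -, hηN', hθη⟩ := Cfsg.Agent.CharactersDeep.CosetAverage.exists_irr_mul N (ψ : H → ℂ) ψ.2
    (by rw [hψN]; exact hφ) θ hθ (by rw [hψN]; exact hover)
  have h1 : η' (g ^ k) = η' g := by
    have h2 := hηN' ⟨g ^ k * g⁻¹, pow_mul_inv_mem hk N hidx g⟩ g
    have h3 : g ^ k * g⁻¹ * g = g ^ k := by group
    rw [← h2]
    congr 1
    exact h3.symm
  rw [hθη, Pi.mul_apply, Pi.mul_apply, hψk, h1]

/-- Constituents of the restriction to an intermediate group lie over `φ`. -/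
theorem over_of_over {I : Type u} [Group I] [Fintype I] (N : Subgroup I) [hN : N.Normal]
    [Fintype N] (H : Subgroup I) [Fintype H] (hNH : N ≤ H) {φ : N → ℂ} (hφ : IsIrrCharacter N φ)
    (hinv : ∀ g, conjFn N φ g = φ) {χ : I → ℂ} (hχ : IsIrrCharacter I χ)
    (hover : classInner (fun n : N => χ n) φ ≠ 0) {θ : H → ℂ} (hθ : IsIrrCharacter H θ)
    (hθχ : classInner (fun t : H => χ t) θ ≠ 0) : classInner (resTo hNH θ) φ ≠ 0 := by
  classical
  have hθN : IsCharacter N (resTo hNH θ) :=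
    Cfsg.Agent.OddOrderCharacters.PF9.CliffGen.isCharacter_resTo hNH (isIrr_isCharacter hθ)
  haveI := @Fintype.ofFinite (IrrCharacter N) finite_irr
  -- a constituent of `θ_N`
  obtain ⟨φ', hφ'⟩ : ∃ φ' : IrrCharacter N, classInner (resTo hNH θ) (φ' : N → ℂ) ≠ 0 := by
    by_contra hcon
    push Not at hcon
    have h1 := classFunction_eq_sum (isCharacter_isClassFunction hθN)
    rw [Finset.sum_congr rfl fun φ _ => by rw [hcon φ, zero_smul], Finset.sum_const_zero] at h1
    have h2 := congrFun h1 1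
    exact isIrr_apply_one_ne_zero hθ h2
  have hcH : IsCharacter H (fun t : H => χ t) := isCharacter_comp H.subtype (isIrr_isCharacter hχ)
  have h7 := Cfsg.Agent.OddOrderCharacters.Clifford.isCharacter_sub_irr hcH hθ hθχ
  have h8 : (fun n : N => χ n) = resTo hNH ((fun t : H => χ t) - θ) + resTo hNH θ := by
    funext n
    show χ n = (χ n - θ _) + θ _
    rw [sub_add_cancel]
  obtain ⟨a, ha⟩ := classInner_isNat
    (Cfsg.Agent.OddOrderCharacters.PF9.CliffGen.isCharacter_resTo hNH h7) (isIrr_isCharacter φ'.2)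
  obtain ⟨b, hb⟩ := classInner_isNat hθN (isIrr_isCharacter φ'.2)
  have h9 : classInner (fun n : N => χ n) (φ' : N → ℂ) ≠ 0 := by
    rw [h8, classInner_add_left, ha, hb]
    rw [hb] at hφ'
    have : b ≠ 0 := by exact_mod_cast hφ'
    exact_mod_cast (by omega : a + b ≠ 0)
  obtain ⟨g, hg⟩ := Cfsg.Agent.Characters.Clifford.exists_conj_of_constituents N hχ hφ φ'.2 hover h9
  have h10 : (φ' : N → ℂ) = φ := by
    rw [hg]
    exact hinv g
  rw [← h10]
  exact hφ'

/-- A character is power-fixed if its restriction to a subgroup containing the element is a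
combination of power-fixed characters. -/
theorem fixed_of_restrict {I : Type u} [Group I] [Fintype I] (H : Subgroup I) [Fintype H] {k : ℕ}
    {χ : I → ℂ} (hχ : IsIrrCharacter I χ)
    (h : ∀ θ : IrrCharacter H, classInner (fun t : H => χ t) (θ : H → ℂ) ≠ 0 →
      ∀ t : H, (θ : H → ℂ) (t ^ k) = (θ : H → ℂ) t) (g : I) (hg : g ∈ H) : χ (g ^ k) = χ g := by
  classical
  haveI := @Fintype.ofFinite (IrrCharacter H) finite_irr
  have hcH : IsCharacter H (fun t : H => χ t) := isCharacter_comp H.subtype (isIrr_isCharacter hχ)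
  have h1 := classFunction_eq_sum (isCharacter_isClassFunction hcH)
  have h2 := congrFun h1 (⟨g, hg⟩ ^ k)
  have h3 := congrFun h1 ⟨g, hg⟩
  have h4 : χ (g ^ k) = χ (((⟨g, hg⟩ : H) ^ k : H) : I) := by
    rw [Subgroup.coe_pow]
  have h5 : χ g = χ ((⟨g, hg⟩ : H) : I) := rfl
  have h2' : χ (((⟨g, hg⟩ : H) ^ k : H) : I) = _ := h2
  have h3' : χ ((⟨g, hg⟩ : H) : I) = _ := h3
  rw [h4, h5, h2', h3', Finset.sum_apply, Finset.sum_apply]
  refine Finset.sum_congr rfl fun θ _ => ?_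
  rw [Pi.smul_apply, Pi.smul_apply]
  by_cases h0 : classInner (fun t : H => χ t) (θ : H → ℂ) = 0
  · rw [h0, zero_smul, zero_smul]
  · rw [h θ h0]

/-! ### The conclusion from cyclic extensions -/

section main

variable {G : Type u} [Group G] [Fintype G] {M : Ideal AlgInt} {k : ℕ}

/-- **The conclusion from a power-fixed character of the inertia group.** -/
theorem of_char (hM : IsPModular 2 M) (S : Subgroup G) [hS : S.Normal] [Fintype S]
    (hidx : ∃ j : ℕ, S.index = 2 ^ j) (hk : IsK G k) (φ : IrrCharacter S)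
    (hφ : φ ∈ principalBlock M S) (hφ1 : (φ : S → ℂ) ≠ fun _ => 1) (I : Subgroup G) [Fintype I]
    (hI : ∀ g, g ∈ I ↔ conjFn S (φ : S → ℂ) g = φ) (hSI : S ≤ I) (ψ : IrrCharacter I)
    (hψk : ∀ t : I, (ψ : I → ℂ) (t ^ k) = (ψ : I → ℂ) t)
    (h0 : classInner (resTo hSI (ψ : I → ℂ)) (φ : S → ℂ) ≠ 0)
    (heven : Even (charDegree (φ : S → ℂ)) ∨ I ≠ ⊤) : Concl M G S k := by
  classical
  haveI : Fact (Nat.Prime 2) := ⟨Nat.prime_two⟩
  haveI : Fintype (S.subgroupOf I) := Fintype.ofFinite _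
  have hcr : IsCharacter S (resTo hSI (ψ : I → ℂ)) :=
    Cfsg.Agent.OddOrderCharacters.PF9.CliffGen.isCharacter_resTo hSI (isIrr_isCharacter ψ.2)
  have hcI : classInner (resTo hSI (ψ : I → ℂ)) (φ : S → ℂ) =
      (mu (resTo hSI (ψ : I → ℂ)) (φ : S → ℂ) : ℂ) := irr_mu_spec hcr φ.2
  have hmu0 : mu (resTo hSI (ψ : I → ℂ)) (φ : S → ℂ) ≠ 0 := by
    intro h1
    rw [h1] at hcI
    exact h0 (by rw [hcI]; simp)
  have hirr : IsIrrCharacter G (indFun I (ψ : I → ℂ)) := irr_ind φ.2 hI hSI ψ.2 h0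
  -- the degree
  have hψ1 : (ψ : I → ℂ) 1 = (mu (resTo hSI (ψ : I → ℂ)) (φ : S → ℂ) : ℂ) * (φ : S → ℂ) 1 := by
    have h := apply_one_of_invariant (S.subgroupOf I) (irr_dn S I hSI φ.2)
      (fun g => inv_dn S I hSI (fun g hg => (hI g).1 hg) g) ψ.2 (by
        rw [mu_dn S I hSI]
        exact hmu0)
    rw [mu_dn S I hSI] at h
    rw [h]
    rfl
  obtain ⟨e, he⟩ : ∃ e : ℕ, (e : ℤ) = mu (resTo hSI (ψ : I → ℂ)) (φ : S → ℂ) := by
    obtain ⟨e, he⟩ := classInner_isNat hcr (isIrr_isCharacter φ.2)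
    refine ⟨e, ?_⟩
    have : mu (resTo hSI (ψ : I → ℂ)) (φ : S → ℂ) = (e : ℤ) := mu_eq (by rw [he]; push_cast; rfl)
    rw [this]
  have he0 : e ≠ 0 := by
    rintro rfl
    exact hmu0 he.symm
  have hdeg : charDegree (indFun I (ψ : I → ℂ)) = I.index * (e * charDegree (φ : S → ℂ)) := by
    have h1 := Cfsg.Agent.OddOrderCharacters.IndRes.indFun_apply_one (H := I) (ψ : I → ℂ)
    rw [hψ1, ← he, Cfsg.Agent.Blocks.Basic.irr_one_eq_charDegree φ.2,
      Cfsg.Agent.Blocks.Basic.irr_one_eq_charDegree hirr] at h1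
    exact_mod_cast h1
  -- `φ` is a constituent of the restriction
  have h5 : classInner (fun t : I => indFun I (ψ : I → ℂ) (t : G)) (ψ : I → ℂ) = 1 := by
    have h6 := Cfsg.Agent.OddOrderCharacters.Clifford.classInner_indFun I (ψ : I → ℂ)
      (indFun I (ψ : I → ℂ)) (isIrr_isClassFunction hirr)
    rw [classInner_irr_self hirr] at h6
    rw [← classInner_conj_symm, ← h6, map_one]
  have hcI2 : IsCharacter I (fun t : I => indFun I (ψ : I → ℂ) (t : G)) :=
    isCharacter_comp I.subtype (isIrr_isCharacter hirr)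
  have h7 := Cfsg.Agent.OddOrderCharacters.Clifford.isCharacter_sub_irr hcI2 ψ.2
    (by rw [h5]; exact one_ne_zero)
  set ρ : I → ℂ := (fun t : I => indFun I (ψ : I → ℂ) (t : G)) - (ψ : I → ℂ) with hρ
  have h8 : (fun n : S => indFun I (ψ : I → ℂ) (n : G)) = resTo hSI ρ + resTo hSI (ψ : I → ℂ) := by
    funext n
    show _ = ρ _ + (ψ : I → ℂ) _
    rw [hρ]
    show indFun I (ψ : I → ℂ) (n : G) = indFun I (ψ : I → ℂ) (n : G) - (ψ : I → ℂ) _ + (ψ : I → ℂ) _
    rw [sub_add_cancel]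
  obtain ⟨m, hm⟩ := classInner_isNat
    (Cfsg.Agent.OddOrderCharacters.PF9.CliffGen.isCharacter_resTo hSI h7) (isIrr_isCharacter φ.2)
  have h9 : classInner (fun n : S => indFun I (ψ : I → ℂ) (n : G)) (φ : S → ℂ) ≠ 0 := by
    rw [h8, classInner_add_left, hm, hcI, ← he]
    have : (m : ℂ) + ((e : ℤ) : ℂ) = ((m + e : ℕ) : ℂ) := by push_cast; ring
    rw [this]
    exact_mod_cast (by omega : m + e ≠ 0)
  refine ⟨⟨indFun I (ψ : I → ℂ), hirr⟩, mem_of_over hM S hidx hφ h9, ?_,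
    fun g => indFun_pow I hk hψk g, ?_⟩
  · show Even (charDegree (indFun I (ψ : I → ℂ)))
    rw [hdeg]
    rcases heven with h | h
    · exact (h.mul_left e).mul_left _
    · obtain ⟨j, hj⟩ := hidx
      have h10 : I.index ∣ 2 ^ j := by
        rw [← hj]
        exact Subgroup.index_dvd_of_le hSI
      obtain ⟨i, -, hi⟩ := (Nat.dvd_prime_pow Nat.prime_two).1 h10
      have hi0 : i ≠ 0 := by
        rintro rfl
        rw [pow_zero, Subgroup.index_eq_one] at hi
        exact h hi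
      rw [hi]
      exact ((even_two.pow_of_ne_zero hi0)).mul_right _
  · -- the principal character is not a constituent
    show classInner (fun s : S => indFun I (ψ : I → ℂ) (s : G)) (fun _ => (1 : ℂ)) = 0
    by_contra hne
    obtain ⟨g, hg⟩ := Cfsg.Agent.Characters.Clifford.exists_conj_of_constituents S hirr
      isIrrCharacter_one φ.2 hne h9
    apply hφ1
    rw [hg]
    rfl

/-- The odd extension property for `S⟨g⟩`. -/
def CycExt (S : Subgroup G) [Fintype S] (k : ℕ) (φ : S → ℂ) (g : G) : Prop :=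
  letI : Fintype ((S ⊔ Subgroup.zpowers g : Subgroup G)) := Fintype.ofFinite _
  letI : Fintype (S.subgroupOf (S ⊔ Subgroup.zpowers g)) := Fintype.ofFinite _
  OddExt (S ⊔ Subgroup.zpowers g : Subgroup G) (S.subgroupOf (S ⊔ Subgroup.zpowers g)) k
    (dn S (S ⊔ Subgroup.zpowers g) le_sup_left φ)

theorem isCyclic_sup (S : Subgroup G) [hS : S.Normal] (g : G) :
    IsCyclic ((S ⊔ Subgroup.zpowers g : Subgroup G) ⧸ S.subgroupOf (S ⊔ Subgroup.zpowers g)) := by
  set H : Subgroup G := S ⊔ Subgroup.zpowers g with hH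
  have hg : g ∈ H := (le_sup_right : Subgroup.zpowers g ≤ H) (Subgroup.mem_zpowers g)
  refine ⟨⟨QuotientGroup.mk (⟨g, hg⟩ : H), ?_⟩⟩
  intro x
  obtain ⟨y, rfl⟩ := QuotientGroup.mk_surjective x
  obtain ⟨s, hs, z, hz, hsz⟩ := Subgroup.mem_sup_of_normal_left.1 y.2
  obtain ⟨n, rfl⟩ := Subgroup.mem_zpowers_iff.1 hz
  refine ⟨n, ?_⟩
  show (QuotientGroup.mk (⟨g, hg⟩ : H) : H ⧸ S.subgroupOf H) ^ n = QuotientGroup.mk y
  rw [← QuotientGroup.mk_zpow, QuotientGroup.eq]
  rw [Subgroup.mem_subgroupOf]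
  show ((((⟨g, hg⟩ : H) ^ n)⁻¹ * y : H) : G) ∈ S
  have h1 : ((((⟨g, hg⟩ : H) ^ n)⁻¹ * y : H) : G) = (g ^ n)⁻¹ * s * g ^ n := by
    rw [Subgroup.coe_mul, Subgroup.coe_inv, Subgroup.coe_zpow, ← hsz]
    group
  rw [h1]
  have h2 := hS.conj_mem s hs (g ^ n)⁻¹
  rwa [inv_inv] at h2

theorem index_two_pow_of_le (S : Subgroup G) (hidx : ∃ j : ℕ, S.index = 2 ^ j) (H : Subgroup G) :
    ∃ j : ℕ, (S.subgroupOf H).index = 2 ^ j ∨ ¬ S ≤ H := by
  by_cases h : S ≤ H
  · obtain ⟨j, hj⟩ := hidx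
    have h1 : (S.subgroupOf H).index ∣ 2 ^ j := by
      rw [← hj]
      exact Subgroup.relIndex_dvd_index_of_le h
    obtain ⟨i, -, hi⟩ := (Nat.dvd_prime_pow Nat.prime_two).1 h1
    exact ⟨i, Or.inl hi⟩
  · exact ⟨0, Or.inr h⟩

/-- **All the characters over `φ` are power-fixed** if `φ` is invariant and has the odd extension
property for all the groups `S⟨g⟩`. -/
theorem fixed_of_cyc (hk : IsK G k) (S : Subgroup G) [hS : S.Normal] [Fintype S]
    (hidx : ∃ j : ℕ, S.index = 2 ^ j) {φ : S → ℂ} (hφ : IsIrrCharacter S φ)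
    (hinv : ∀ g, conjFn S φ g = φ) (hφk : ∀ s : S, φ (s ^ k) = φ s)
    (hext : ∀ g, CycExt S k φ g) {χ : G → ℂ} (hχ : IsIrrCharacter G χ)
    (hover : classInner (fun n : S => χ n) φ ≠ 0) (g : G) : χ (g ^ k) = χ g := by
  classical
  set H : Subgroup G := S ⊔ Subgroup.zpowers g with hH
  letI iH : Fintype H := Fintype.ofFinite _
  letI iS : Fintype (S.subgroupOf H) := Fintype.ofFinite _
  have hSH : S ≤ H := le_sup_left
  have hg : g ∈ H := (le_sup_right : Subgroup.zpowers g ≤ H) (Subgroup.mem_zpowers g)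
  refine fixed_of_restrict H hχ ?_ g hg
  intro θ hθ t
  have h1 := over_of_over S H hSH hφ hinv hχ hover θ.2 hθ
  obtain ⟨j, hj⟩ := index_two_pow_of_le S hidx H
  refine fixed_of_ext (S.subgroupOf H) (isCyclic_sup S g) ⟨j, hj.resolve_right (not_not.2 hSH)⟩
    (hk.sub H) (irr_dn S H hSH hφ) (fun x => inv_dn S H hSH (fun y _ => hinv y) x) ?_ (hext g)
    θ.2 ?_ t
  · intro s
    show φ (Subgroup.subgroupOfEquivOfLe hSH (s ^ k)) = φ (Subgroup.subgroupOfEquivOfLe hSH s)
    rw [map_pow, hφk]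
  · have h2 := classInner_dn S H hSH (resTo hSH (θ : H → ℂ)) φ
    intro h3
    apply h1
    rw [← h2]
    exact h3

/-- **The conclusion of S4522 from cyclic extensions** (the inertia group). -/
theorem of_cyc (hM : IsPModular 2 M) (S : Subgroup G) [hS : S.Normal] [Fintype S]
    (hidx : ∃ j : ℕ, S.index = 2 ^ j) (hk : IsK G k) (φ : IrrCharacter S)
    (hφ : φ ∈ principalBlock M S) (hφk : ∀ s : S, (φ : S → ℂ) (s ^ k) = (φ : S → ℂ) s)
    (hφ1 : (φ : S → ℂ) ≠ fun _ => 1) (I : Subgroup G) [Fintype I] [Fintype (S.subgroupOf I)]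
    (hI : ∀ g, g ∈ I ↔ conjFn S (φ : S → ℂ) g = φ) (hSI : S ≤ I)
    (hext : ∀ g : I, CycExt (S.subgroupOf I) k (dn S I hSI (φ : S → ℂ)) g)
    (heven : Even (charDegree (φ : S → ℂ)) ∨ I ≠ ⊤) : Concl M G S k := by
  classical
  -- a character of `I` over `φ`
  haveI := @Fintype.ofFinite (IrrCharacter I) finite_irr
  have hind : IsCharacter I (indFun (S.subgroupOf I) (dn S I hSI (φ : S → ℂ))) :=
    Cfsg.Agent.OddOrderCharacters.IndRes.isCharacter_indFun _ (isIrr_isCharacter (irr_dn S I hSI φ.2))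
  obtain ⟨ψ, hψ⟩ : ∃ ψ : IrrCharacter I,
      classInner (indFun (S.subgroupOf I) (dn S I hSI (φ : S → ℂ))) (ψ : I → ℂ) ≠ 0 := by
    by_contra hcon
    push Not at hcon
    have h1 := classFunction_eq_sum (isCharacter_isClassFunction hind)
    rw [Finset.sum_congr rfl fun φ _ => by rw [hcon φ, zero_smul], Finset.sum_const_zero] at h1
    have h2 := congrFun h1 1
    rw [Cfsg.Agent.OddOrderCharacters.IndRes.indFun_apply_one] at h2
    have h3 : ((S.subgroupOf I).index : ℂ) ≠ 0 := by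
      exact_mod_cast Subgroup.index_ne_zero_of_finite
    have h4 : dn S I hSI (φ : S → ℂ) 1 ≠ 0 := isIrr_apply_one_ne_zero (irr_dn S I hSI φ.2)
    exact (mul_ne_zero h3 h4) h2
  have hψ' : classInner (fun n : S.subgroupOf I => (ψ : I → ℂ) n) (dn S I hSI (φ : S → ℂ)) ≠ 0 := by
    rw [Cfsg.Agent.OddOrderCharacters.Clifford.classInner_indFun _ _ _ (isIrr_isClassFunction ψ.2)]
      at hψ
    intro h1
    apply hψ
    rw [← classInner_conj_symm, h1, map_zero]
  have hψ0 : classInner (resTo hSI (ψ : I → ℂ)) (φ : S → ℂ) ≠ 0 := by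
    rw [← classInner_dn S I hSI]
    exact hψ'
  refine of_char hM S hidx hk φ hφ hφ1 I hI hSI ψ ?_ hψ0 heven
  obtain ⟨j, hj⟩ := index_two_pow_of_le S hidx I
  refine fixed_of_cyc (hk.sub I) (S.subgroupOf I) ⟨j, hj.resolve_right (not_not.2 hSI)⟩
    (irr_dn S I hSI φ.2) (fun x => inv_dn S I hSI (fun g hg => (hI g).1 hg) x) ?_ hext ψ.2 hψ'
  intro s
  show (φ : S → ℂ) (Subgroup.subgroupOfEquivOfLe hSI (s ^ k)) =
    (φ : S → ℂ) (Subgroup.subgroupOfEquivOfLe hSI s)
  rw [map_pow, hφk]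

/-- **The conclusion of S4522 from cyclic extensions** (the invariant case), with the
constituent. -/
theorem of_cyc_inv' (hM : IsPModular 2 M) (S : Subgroup G) [hS : S.Normal] [Fintype S]
    (hidx : ∃ j : ℕ, S.index = 2 ^ j) (hk : IsK G k) (φ : IrrCharacter S)
    (hφ : φ ∈ principalBlock M S) (hφk : ∀ s : S, (φ : S → ℂ) (s ^ k) = (φ : S → ℂ) s)
    (hinv : ∀ g, conjFn S (φ : S → ℂ) g = φ) (hext : ∀ g, CycExt S k (φ : S → ℂ) g)
    (heven : Even (charDegree (φ : S → ℂ))) : ∃ ψ ∈ principalBlock M G,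
      Even (charDegree (ψ : G → ℂ)) ∧ (∀ g : G, (ψ : G → ℂ) (g ^ k) = (ψ : G → ℂ) g) ∧
      classInner (fun n : S => (ψ : G → ℂ) n) (φ : S → ℂ) ≠ 0 := by
  classical
  haveI : Fact (Nat.Prime 2) := ⟨Nat.prime_two⟩
  haveI := @Fintype.ofFinite (IrrCharacter G) finite_irr
  have hind : IsCharacter G (indFun S (φ : S → ℂ)) :=
    Cfsg.Agent.OddOrderCharacters.IndRes.isCharacter_indFun _ (isIrr_isCharacter φ.2)
  obtain ⟨ψ, hψ⟩ : ∃ ψ : IrrCharacter G, classInner (indFun S (φ : S → ℂ)) (ψ : G → ℂ) ≠ 0 := by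
    by_contra hcon
    push Not at hcon
    have h1 := classFunction_eq_sum (isCharacter_isClassFunction hind)
    rw [Finset.sum_congr rfl fun φ _ => by rw [hcon φ, zero_smul], Finset.sum_const_zero] at h1
    have h2 := congrFun h1 1
    rw [Cfsg.Agent.OddOrderCharacters.IndRes.indFun_apply_one] at h2
    have h3 : (S.index : ℂ) ≠ 0 := by
      exact_mod_cast Subgroup.index_ne_zero_of_finite
    have h4 : (φ : S → ℂ) 1 ≠ 0 := isIrr_apply_one_ne_zero φ.2
    exact (mul_ne_zero h3 h4) h2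
  have hψ' : classInner (fun n : S => (ψ : G → ℂ) n) (φ : S → ℂ) ≠ 0 := by
    rw [Cfsg.Agent.OddOrderCharacters.Clifford.classInner_indFun _ _ _ (isIrr_isClassFunction ψ.2)]
      at hψ
    intro h1
    apply hψ
    rw [← classInner_conj_symm, h1, map_zero]
  have hψk := fixed_of_cyc hk S hidx φ.2 hinv hφk hext ψ.2 hψ'
  -- the degree
  have hc : IsCharacter S (fun n : S => (ψ : G → ℂ) n) :=
    isCharacter_comp S.subtype (isIrr_isCharacter ψ.2)
  have hψ1 : (ψ : G → ℂ) 1 = (mu (fun n : S => (ψ : G → ℂ) n) (φ : S → ℂ) : ℂ) * (φ : S → ℂ) 1 :=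
    apply_one_of_invariant S φ.2 hinv ψ.2 (by
      intro h1
      apply hψ'
      rw [irr_mu_spec hc φ.2, h1]
      simp)
  obtain ⟨e, he⟩ : ∃ e : ℕ, (e : ℤ) = mu (fun n : S => (ψ : G → ℂ) n) (φ : S → ℂ) := by
    obtain ⟨e, he⟩ := classInner_isNat hc (isIrr_isCharacter φ.2)
    refine ⟨e, ?_⟩
    have : mu (fun n : S => (ψ : G → ℂ) n) (φ : S → ℂ) = (e : ℤ) :=
      mu_eq (by rw [he]; push_cast; rfl)
    rw [this]
  have hdeg : charDegree (ψ : G → ℂ) = e * charDegree (φ : S → ℂ) := by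
    rw [← he, Cfsg.Agent.Blocks.Basic.irr_one_eq_charDegree φ.2,
      Cfsg.Agent.Blocks.Basic.irr_one_eq_charDegree ψ.2] at hψ1
    exact_mod_cast hψ1
  refine ⟨ψ, mem_of_over hM S hidx hφ hψ', ?_, hψk, hψ'⟩
  rw [hdeg]
  exact heven.mul_left e

theorem ne_one_of_even {S : Type*} [Group S] [Fintype S] {φ : S → ℂ}
    (heven : Even (charDegree φ)) : φ ≠ fun _ => 1 := by
  intro h1
  rw [h1] at heven
  have h2 : charDegree (fun _ : S => (1 : ℂ)) = 1 := by
    have h3 := Cfsg.Agent.Blocks.Basic.irr_one_eq_charDegree (isIrrCharacter_one (G := S))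
    exact_mod_cast h3.symm
  rw [h2] at heven
  exact absurd heven (by decide)

/-- **The conclusion of S4522 from cyclic extensions** (the invariant case). -/
theorem of_cyc_inv (hM : IsPModular 2 M) (S : Subgroup G) [hS : S.Normal] [Fintype S]
    (hidx : ∃ j : ℕ, S.index = 2 ^ j) (hk : IsK G k) (φ : IrrCharacter S)
    (hφ : φ ∈ principalBlock M S) (hφk : ∀ s : S, (φ : S → ℂ) (s ^ k) = (φ : S → ℂ) s)
    (hinv : ∀ g, conjFn S (φ : S → ℂ) g = φ) (hext : ∀ g, CycExt S k (φ : S → ℂ) g)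
    (heven : Even (charDegree (φ : S → ℂ))) : Concl M G S k := by
  classical
  obtain ⟨ψ, h1, h2, h3, h4⟩ := of_cyc_inv' hM S hidx hk φ hφ hφk hinv hext heven
  refine ⟨ψ, h1, h2, h3, ?_⟩
  show classInner (fun s : S => (ψ : G → ℂ) (s : G)) (fun _ => (1 : ℂ)) = 0
  by_contra hne
  obtain ⟨g, hg⟩ := Cfsg.Agent.Characters.Clifford.exists_conj_of_constituents S ψ.2
    isIrrCharacter_one φ.2 hne h4
  apply ne_one_of_even heven
  rw [hg]
  rfl

end main

end Cfsg.Agent.H610.EB
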